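import Groth.Agent.QCoh.DevissageIdeal
import Groth.Agent.QCoh.AnnIdeal

/-!
# Comparison of a module with a sum of copies of the structure sheaf of a closure
-/

universe u

set_option backward.isDefEq.respectTransparency false
set_option backward.isDefEq.respectTransparency.types false

open CategoryTheory CategoryTheory.Limits AlgebraicGeometry TopologicalSpace Opposite

namespace Groth.Agent.QCoh

attribute [local instance] hasFiniteBiproducts

variable {X : Scheme.{u}}

/-- A module killed by the prime of `ξ` on `U` is compared, inside the extension by `j_*` of its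
restriction to `U`, with a sum of copies of the structure sheaf of the closure of `ξ`. -/
theorem exists_theta_closure [IsNoetherian X] {F : X.Modules} (hF : Coh.IsCoh F) {Z : Scheme.{u}} (i : Z ⟶ X)
    [IsClosedImmersion i] [IsIntegral Z] {U : X.Opens} (hU : IsAffineOpen U) (hξU : i (genericPoint Z) ∈ U)
    (hkill : ∀ a : Γ(X, U), i (genericPoint Z) ∉ X.basicOpen a → ∀ m : Γ(F, U), a • m = 0) :
    ∃ (r : ℕ) (Θ : (⨁ fun _ : ULift.{u} (Fin r) => (Coh.push i).obj (Coh.structureModule Z)) ⟶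
        (Scheme.Modules.pushforward U.ι).obj (F.restrict U.ι)),
      Mono Θ ∧ (i (genericPoint Z) ∈ CohB1.support F → 0 < r) ∧
      ∀ m : Γ(F, U), ∃ a : Γ(X, U), i (genericPoint Z) ∈ X.basicOpen a ∧ ∃ y, Θ.app U y =
        ((Scheme.Modules.restrictAdjunction U.ι).unit.app F).app U (a • m) := by
  classical
  set ξ := i (genericPoint Z) with hξdef
  set p := hU.primeIdealOf ⟨ξ, hξU⟩ with hpdef
  have hD : ∀ a : Γ(X, U), ξ ∈ X.basicOpen a ↔ a ∉ p.asIdeal := mem_basicOpen_iff_notMem hU hξU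
  haveI := finite_sections hF hU
  obtain ⟨r, s, hind, hgen⟩ := exists_indep_gens (M := Γ(F, U)) p.asIdeal
    fun a ha m => hkill a (fun h => (hD a).1 h ha) m
  set Pb := (Scheme.Modules.pushforward U.ι).obj (F.restrict U.ι)
  let ψ : F ⟶ Pb := (Scheme.Modules.restrictAdjunction U.ι).unit.app F
  have hPb : Coh.IsQCoh Pb := isQCoh_pushforward U.ι (isQCoh_restrict U.ι hF.1)
  have hψinj : Function.Injective (ψ.app U) := unit_restrict_app_injective U F le_rfl
  have hψsurj : Function.Surjective (ψ.app U) := fun y => by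
    have he : U.ι ''ᵁ (U.ι ⁻¹ᵁ U) = U := by
      rw [U.ι.image_preimage_eq_opensRange_inf, Scheme.Opens.opensRange_ι, inf_idem]
    refine ⟨F.presheaf.map (homOfLE he.ge).op y, ?_⟩
    show ((Scheme.Modules.restrictAdjunction U.ι).unit.app F).app U _ = _
    rw [Scheme.Modules.restrictAdjunction_unit_app_app]
    exact (map_map (M := F) _ _ (show Γ(F, U.ι ''ᵁ (U.ι ⁻¹ᵁ U)) from y)).trans (map_id' (M := F) _ _)
  -- maps from the structure sheaf of the closure
  let A := (Coh.push i).obj (Coh.structureModule Z)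
  have hA : Coh.IsCoh A := isCoh_push_structure i
  let η : Coh.structureModule X ⟶ A := SheafOfModules.unitToPushforwardObjUnit i.toRingCatSheafHom
  have hη : ∀ (V : X.Opens) (a : Γ(X, V)), η.app V a = i.app V a := fun V a => rfl
  have hηk : ∀ (V : X.Opens) (a : Γ(X, V)), η.app V a = 0 ↔ ξ ∉ X.basicOpen a := fun V a => by
    rw [hη]
    refine not_iff_not.1 ((ne_zero_iff_mem_basicOpen (i.app V a)).trans ?_)
    rw [not_not, ← Scheme.preimage_basicOpen]
    rfl
  haveI : Epi η := by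
    refine Preadditive.epi_of_cokernel_zero (IsZero.eq_of_tgt (isZero_of_app_eq_zero
      (isQCoh_cokernel isQCoh_structureModule hA.1 η) fun V x => ?_) _ _)
    obtain ⟨y, rfl⟩ := app_surjective_of_epi hA.1 (isQCoh_cokernel isQCoh_structureModule hA.1 η)
      (cokernel.π η) V.2 x
    obtain ⟨a, rfl⟩ := i.app_surjective V.1 V.2 y
    exact congr(($(cokernel.condition η)).app V.1 a)
  have hfs : ∀ k, ∀ a : Γ(X, U), a • s k = 0 ↔ a ∈ p.asIdeal := fun k a => by
    refine ⟨fun h => ?_, fun ha => hkill a (fun h => (hD a).1 h ha) (s k)⟩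
    have := hind (Pi.single k a) (by
      rw [Finset.sum_eq_single k (fun b _ hb => by rw [Pi.single_eq_of_ne hb, zero_smul])
        (fun h => absurd (Finset.mem_univ k) h), Pi.single_eq_same]
      exact h) k
    rwa [Pi.single_eq_same] at this
  choose φ₁ hφ1 hφ using fun k => exists_kernel_point hF.1 hU (s k) p (hfs k)
  have hker : ∀ k, kernel.ι η ≫ φ₁ k = 0 := fun k => by
    refine Scheme.Modules.hom_ext _ _ fun W => ?_
    ext x
    refine eq_zero_of_locally W _ fun q hq => ?_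
    obtain ⟨_, ⟨V, hV, rfl⟩, hqV, hVW⟩ := X.isBasis_affineOpens.exists_subset_of_mem_open hq W.2
    refine ⟨V, homOfLE hVW, hqV, ?_⟩
    rw [← map_app_comm]
    refine (hφ k ⟨V, hV⟩ _).2 ?_
    rw [hU.fromSpec_primeIdealOf]
    exact (hηk V _).1 congr(($(kernel.condition η)).app V _)
  choose θ hθ using fun k => (⟨_, ((CokernelCofork.IsColimit.desc'
    (Abelian.epiIsCokernelOfKernel _ (kernelIsKernel η)) (φ₁ k) (hker k))).2⟩ : ∃ θ, η ≫ θ = φ₁ k)
  let T : ULift.{u} (Fin r) → X.Modules := fun _ => A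
  let Θ : (⨁ T) ⟶ Pb := biproduct.desc θ
  have hT : Coh.IsCoh (⨁ T) := isCoh_biproduct T fun _ => hA
  have hθU : ∀ k (a : Γ(X, U)), (θ k).app U (η.app U a) = ψ.app U (a • s k) := fun k a => by
    rw [Scheme.Modules.Hom.app_smul, show ψ.app U (s k) = (φ₁ k).app U (1 : Γ(X, U)) from (hφ1 k).symm]
    exact ((congr(($(hθ k)).app U a) : _).trans
      (congrArg ((φ₁ k).app U) (mul_one a).symm)).trans
      (Scheme.Modules.Hom.app_smul (M := Coh.structureModule X) (φ₁ k) a (1 : Γ(X, U)))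
  have hΘinjU : ∀ x : Γ(⨁ T, U), Θ.app U x = 0 → ∀ k, (biproduct.π T k).app U x = 0 := fun x hx => by
    choose c hc using fun k => i.app_surjective U hU
      (show Γ(Z, i ⁻¹ᵁ U) from (biproduct.π T k).app U x)
    have hc' : ∀ k, η.app U (c k) = (biproduct.π T k).app U x := fun k => (hη U (c k)).trans (hc k)
    have h0 : ψ.app U (∑ k, c k • s k) = 0 := by
      rw [map_sum, ← hx, biproduct_desc_app]
      exact Finset.sum_congr rfl fun k _ => (hθU k (c k)).symm.trans (congrArg _ (hc' k))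
    have hc0 := hind c (hψinj (h0.trans (map_zero _).symm))
    exact fun k => (hc' k).symm.trans ((hηk U (c k)).2 fun h => (hD _).1 h (hc0 k))
  haveI : Mono Θ := by
    refine mono_of_isBasis Θ X.isBasis_affineOpens fun W hW => (injective_iff_map_eq_zero _).2 fun x hx => ?_
    rw [biproduct_app_decomp T W x]
    refine Finset.sum_eq_zero fun k _ => ?_
    suffices (biproduct.π T k).app W x = 0 by rw [this, map_zero]
    by_contra hne
    have hη' : genericPoint Z ∈ Z.basicOpen
        (show Γ(Z, i ⁻¹ᵁ W) from (biproduct.π T k).app W x) := (ne_zero_iff_mem_basicOpen _).1 hne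
    obtain ⟨g, hg, hξg⟩ := hU.exists_basicOpen_le (V := W)
      ⟨ξ, Z.basicOpen_le _ hη'⟩ hξU
    obtain ⟨m, y, hy⟩ := exists_pow_smul_eq_map hT.1 hU g ((⨁ T).presheaf.map (homOfLE hg).op x)
    have h1 : Pb.presheaf.map (homOfLE (X.basicOpen_le g)).op (Θ.app U y) = 0 := by
      rw [← map_app_comm, hy, Scheme.Modules.Hom.app_smul, map_app_comm, hx, map_zero, smul_zero]
    obtain ⟨l, hl⟩ := exists_pow_smul_eq_zero hPb hU g _ h1
    have h2 : g ^ l • (biproduct.π T k).app U y = 0 := by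
      rw [← Scheme.Modules.Hom.app_smul]
      exact hΘinjU _ ((Scheme.Modules.Hom.app_smul Θ _ y).trans hl) k
    have h3 := congrArg (A.presheaf.map (homOfLE (X.basicOpen_le g)).op) h2
    rw [map_zero, map_smul', ← map_app_comm, hy, Scheme.Modules.Hom.app_smul, ← mul_smul, map_pow,
      ← pow_add] at h3
    have hgu : IsUnit (X.presheaf.map (homOfLE (X.basicOpen_le g)).op g) :=
      RingedSpace.isUnit_res_basicOpen X.toRingedSpace g
    have h4 := (hgu.pow (l + m)).smul_left_cancel.1 (h3.trans (smul_zero _).symm)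
    rw [map_app_comm] at h4
    have h5 : genericPoint Z ∈ Z.basicOpen (Z.presheaf.map ((Opens.map i.base).map (homOfLE hg)).op
        (show Γ(Z, i ⁻¹ᵁ W) from (biproduct.π T k).app W x)) :=
      (Z.basicOpen_res _ _).ge ⟨hξg, hη'⟩
    exact (ne_zero_iff_mem_basicOpen _).2 h5 h4
  refine ⟨r, Θ, inferInstance, fun hξ => Nat.pos_of_ne_zero fun h0 => ?_, fun m => ?_⟩
  · subst h0
    obtain ⟨m, hm⟩ := (mem_support_iff hF.1 hU hξU).1 hξ
    obtain ⟨a, ha, cs, hcs⟩ := hgen m
    exact hm a ((hD a).2 ha) (hcs.symm.trans (Fintype.sum_empty _))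
  · obtain ⟨a, ha, cs, hcs⟩ := hgen m
    refine ⟨a, (hD a).2 ha, ∑ k, (biproduct.ι T k).app U (η.app U (cs k)), ?_⟩
    show Θ.app U _ = ψ.app U (a • m)
    rw [map_sum, ← hcs, map_sum]
    exact Finset.sum_congr rfl fun k _ =>
      (congr(($(biproduct.ι_desc θ k)).app U (η.app U (cs k))) : _).trans (hθU k (cs k))

/-- Dévissage using extensions only, with all ideals as generators. -/
theorem devissage_ideals [IsNoetherian X] (P : X.Modules → Prop)
    (hiso : ∀ M N : X.Modules, Nonempty (M ≅ N) → P M → P N)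
    (h0 : ∀ M : X.Modules, IsZero M → P M) (X' : Set X)
    (h132 : ∀ S : ShortComplex X.Modules, S.ShortExact → Coh.IsCoh S.X₁ → Coh.IsCoh S.X₂ → Coh.IsCoh S.X₃ →
      P S.X₁ → P S.X₃ → P S.X₂)
    (hgen : ∀ ξ : X, closure {ξ} ⊆ X' →
      (∀ M : X.Modules, Coh.IsCoh M → CohB1.support M ⊆ closure {ξ} → ξ ∉ CohB1.support M → P M) →
      ∀ (Z : Scheme.{u}) (i : Z ⟶ X) [IsClosedImmersion i] [IsIntegral Z], Set.range i = closure {ξ} →
        ∀ (I : Z.Modules) (ι : I ⟶ Coh.structureModule Z), Mono ι → Coh.IsQCoh I → ¬ IsZero I →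
          P ((Coh.push i).obj I))
    {M : X.Modules} (hM : Coh.IsCoh M) (hsupp : CohB1.support M ⊆ X') : P M := by
  suffices H : ∀ (C : Closeds X) (M : X.Modules), Coh.IsCoh M → CohB1.support M ⊆ (C : Set X) →
      CohB1.support M ⊆ X' → P M from
    H ⊤ M hM (fun x _ => trivial) hsupp
  intro C
  induction C using WellFoundedLT.induction with
  | ind C IH =>
    intro M hM hC hX'
    induction filt_of_isCoh hM with
    | @zero N h => exact h0 N h
    | @step N M' φ _ _ hNc hMc hex ih =>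
      obtain ⟨Z, i, hi, hZ, I, ι, hι, hI, hI0, ⟨e⟩⟩ := hex
      haveI := hi; haveI := hZ; haveI := hι
      have hc := isCoh_cokernel hNc.1 hMc φ
      have hSub : CohB1.support N ⊆ CohB1.support M' := mem_support_of_mono hNc.1 hMc.1 φ
      refine h132 (ShortComplex.mk φ (cokernel.π φ) (cokernel.condition φ))
        (.mk' (ShortComplex.exact_of_g_is_cokernel _ (cokernelIsCokernel φ)) ‹_› inferInstance)
        hNc hMc hc (ih hNc (hSub.trans hC) (hSub.trans hX')) ?_
      refine hiso _ _ ⟨e.symm⟩ ?_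
      set ξ := i (genericPoint Z)
      have hP : CohB1.support ((Coh.push i).obj I) ⊆ CohB1.support M' := by
        rw [← support_iso e hc.1]
        exact support_of_epi hMc.1 hc.1 (cokernel.π φ)
      rw [support_push_ideal i ι hI hI0] at hP
      refine hgen ξ (hP.trans hX') (fun L hL hLs hξ => ?_) Z i (range_eq_closure i) I ι hι hI hI0
      refine IH ⟨_, isClosed_support_of_isFT hL.1 hL.2⟩ ?_ L hL le_rfl ((hLs.trans hP).trans hX')
      exact SetLike.lt_iff_le_and_exists.2
        ⟨(hLs.trans hP).trans hC, ξ, hC (hP (subset_closure rfl)), hξ⟩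

theorem hom_eq_zero_of_affine {M N : X.Modules} (f : M ⟶ N)
    (h : ∀ (W : X.Opens), IsAffineOpen W → ∀ x, f.app W x = 0) : f = 0 := by
  refine Scheme.Modules.hom_ext _ _ fun W => ?_
  ext x
  refine eq_zero_of_locally W _ fun q hq => ?_
  obtain ⟨_, ⟨V, hV, rfl⟩, hqV, hVW⟩ := X.isBasis_affineOpens.exists_subset_of_mem_open hq W.2
  exact ⟨V, homOfLE hVW, hqV, (map_app_comm f (homOfLE hVW) x).symm.trans (h V hV _)⟩

/-- A sum of copies of any ideal of the closure of `ξ` is an extension, away from `ξ`, of a submodule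
that agrees with `G` at `ξ`, inside a suitable multiple of `G`. -/
theorem exists_ideal_mul [IsNoetherian X] {G : X.Modules} (hG : Coh.IsCoh G) {Z : Scheme.{u}} (i : Z ⟶ X)
    [IsClosedImmersion i] [IsIntegral Z] (hξG : i (genericPoint Z) ∈ CohB1.support G)
    (hann : ∀ a ∈ IsLocalRing.maximalIdeal (X.presheaf.stalk (i (genericPoint Z))),
      ∀ m : G.presheaf.stalk (i (genericPoint Z)), a • m = 0)
    {I : Z.Modules} (ι : I ⟶ Coh.structureModule Z) [Mono ι] (hI : Coh.IsCoh I) (hI0 : ¬ IsZero I) :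
    ∃ r : ℕ, 0 < r ∧ ∃ (J : X.IdealSheafData) (u : G ⟶ (Scheme.Modules.pullback J.subschemeι ⋙
        Scheme.Modules.pushforward J.subschemeι).obj G),
      i (genericPoint Z) ∉ (J.support : Set X) ∧
      u = (Scheme.Modules.pullbackPushforwardAdjunction J.subschemeι).unit.app G ∧
      ∀ (G' : X.Modules) (l : G' ⟶ G), Mono l → Coh.IsQCoh G' → l ≫ u = 0 →
        Function.Surjective ((TopCat.Presheaf.stalkFunctor _ (i (genericPoint Z))).map l.mapPresheaf) →
          ∃ t : G' ⟶ ⨁ fun _ : ULift.{u} (Fin r) => (Coh.push i).obj I,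
            Mono t ∧ i (genericPoint Z) ∉ CohB1.support (cokernel t) := by
  classical
  set ξ := i (genericPoint Z) with hξdef
  obtain ⟨U, hU, hξU, hkill⟩ := exists_affine_kill hG ξ hann
  obtain ⟨r, Θ, hΘ, hr0, hgenΘ⟩ := exists_theta_closure hG i hU hξU hkill
  refine ⟨r, hr0 hξG, ?_⟩
  haveI := hΘ
  let Pb := (Scheme.Modules.pushforward U.ι).obj (G.restrict U.ι)
  let ψ : G ⟶ Pb := (Scheme.Modules.restrictAdjunction U.ι).unit.app G
  have hPb : Coh.IsQCoh Pb := isQCoh_pushforward U.ι (isQCoh_restrict U.ι hG.1)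
  have hψinj : Function.Injective (ψ.app U) := unit_restrict_app_injective U G le_rfl
  have hψsurj : Function.Surjective (ψ.app U) := fun y => by
    have he : U.ι ''ᵁ (U.ι ⁻¹ᵁ U) = U := by
      rw [U.ι.image_preimage_eq_opensRange_inf, Scheme.Opens.opensRange_ι, inf_idem]
    refine ⟨G.presheaf.map (homOfLE he.ge).op y, ?_⟩
    show ((Scheme.Modules.restrictAdjunction U.ι).unit.app G).app U _ = _
    rw [Scheme.Modules.restrictAdjunction_unit_app_app]
    exact (map_map (M := G) _ _ (show Γ(G, U.ι ''ᵁ (U.ι ⁻¹ᵁ U)) from y)).trans (map_id' (M := G) _ _)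
  let A := (Coh.push i).obj (Coh.structureModule Z)
  let κ : (Coh.push i).obj I ⟶ A := (Coh.push i).map ι
  haveI : Mono κ := Functor.map_mono _ ι
  have hA : Coh.IsCoh A := isCoh_push_structure i
  have hpI : Coh.IsCoh ((Coh.push i).obj I) := isCoh_push i hI
  let S : ULift.{u} (Fin r) → X.Modules := fun _ => (Coh.push i).obj I
  let T : ULift.{u} (Fin r) → X.Modules := fun _ => A
  have hS : Coh.IsCoh (⨁ S) := isCoh_biproduct S fun _ => hpI
  let B : (⨁ S) ⟶ ⨁ T := biproduct.map fun _ => κ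
  haveI : Mono B := Preadditive.mono_of_cancel_zero _ fun {W} g hg => biproduct.hom_ext _ _ fun k => by
    rw [zero_comp]
    refine zero_of_comp_mono κ ?_
    have := hg =≫ biproduct.π T k
    rwa [Category.assoc, biproduct.map_π, zero_comp, ← Category.assoc] at this
  let ΘS : (⨁ S) ⟶ Pb := B ≫ Θ
  have hC : Coh.IsQCoh (cokernel ΘS) := isQCoh_cokernel hS.1 hPb ΘS
  let q : G ⟶ cokernel ΘS := ψ ≫ cokernel.π ΘS
  have hK : Coh.IsCoh (kernel q) := isCoh_of_mono (kernel.ι q) hG (isQCoh_kernel hG.1 hC q)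
  let Q' := Abelian.coimage q
  have hQ' : Coh.IsCoh Q' := isCoh_cokernel hK.1 hG (kernel.ι q)
  have hqU : ∀ m : Γ(G, U), ∃ a : Γ(X, U), ξ ∈ X.basicOpen a ∧ q.app U (a • m) = 0 := fun m => by
    obtain ⟨a, ha, y, hy⟩ := hgenΘ m
    have hcκ : ξ ∉ CohB1.support (cokernel κ) := (mem_support_push_ideal i ι hI.1 hI0).2
    have hcq : Coh.IsQCoh (cokernel κ) := isQCoh_cokernel hpI.1 hA.1 κ
    choose b hb hb0 using fun k => (notMem_support_iff hcq hU hξU).1 hcκ
      ((cokernel.π κ).app U ((biproduct.π T k).app U y))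
    set bb := ∏ k, b k with hbb
    have hκS : (ShortComplex.mk κ (cokernel.π κ) (cokernel.condition κ)).ShortExact :=
      .mk' (ShortComplex.exact_of_g_is_cokernel _ (cokernelIsCokernel κ)) inferInstance inferInstance
    choose w hw using fun k => exists_app_f_eq hκS U (bb • (biproduct.π T k).app U y) (by
      rw [Scheme.Modules.Hom.app_smul, hbb, ← Finset.mul_prod_erase _ b (Finset.mem_univ k), mul_comm,
        mul_smul, hb0 k, smul_zero])
    refine ⟨bb * a, ?_, ?_⟩
    · rw [Scheme.basicOpen_mul]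
      refine ⟨?_, ha⟩
      show ξ ∈ X.basicOpen bb
      rw [X.mem_basicOpen _ ξ hξU, hbb, map_prod]
      exact IsUnit.prod_univ_iff.2 fun k => (X.mem_basicOpen (b k) ξ hξU).1 (hb k)
    have hz : B.app U (∑ k, (biproduct.ι S k).app U (w k)) = bb • y := by
      rw [map_sum]
      conv_rhs => rw [biproduct_app_decomp T U y, Finset.smul_sum]
      refine Finset.sum_congr rfl fun k _ => ?_
      rw [← Scheme.Modules.Hom.app_smul, ← hw k]
      exact congr(($(biproduct.ι_map (fun _ => κ) k)).app U (w k))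
    have h1 : ψ.app U ((bb * a) • m) = ΘS.app U (∑ k, (biproduct.ι S k).app U (w k)) := by
      rw [mul_smul, Scheme.Modules.Hom.app_smul]
      refine (congrArg (bb • ·) hy.symm).trans ?_
      rw [← Scheme.Modules.Hom.app_smul, ← hz]
      rfl
    exact (congrArg ((cokernel.π ΘS).app U) h1).trans congr(($(cokernel.condition ΘS)).app U _)
  have hξQ : ξ ∉ CohB1.support Q' := (notMem_support_iff hQ'.1 hU hξU).2 fun z => by
    obtain ⟨m, rfl⟩ := app_surjective_of_epi hG.1 hQ'.1 (Abelian.coimage.π q) hU z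
    obtain ⟨a, ha, h⟩ := hqU m
    refine ⟨a, ha, app_injective (Abelian.factorThruCoimage q) U ?_⟩
    rw [map_zero, ← Scheme.Modules.Hom.app_smul]
    exact (congr(($(Abelian.coimage.fac q)).app U (a • m)) : _).trans h
  let J₁ := annIdeal hQ'.1 hQ'.2
  let J₀ := Scheme.IdealSheafData.vanishingIdeal (⟨(U : Set X)ᶜ, U.2.isClosed_compl⟩ : Closeds X)
  have hψk : Coh.IsCoh (kernel ψ) := isCoh_of_mono (kernel.ι ψ) hG (isQCoh_kernel hG.1 hPb ψ)
  have hks : CohB1.support (kernel ψ) ⊆ (J₀.support : Set X) := fun x hx => by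
    rw [Scheme.IdealSheafData.coe_support_vanishingIdeal]
    intro hxU
    refine notMem_support_kernel hG.1 hPb ψ hU hxU (fun y hy => ⟨1, ?_, ?_⟩) hx
    · rw [Scheme.basicOpen_of_isUnit _ isUnit_one]; exact hxU
    · rw [one_smul]; exact hψinj (hy.trans (map_zero _).symm)
  obtain ⟨n, hn⟩ := exists_pow_mono hG hψk (kernel.ι ψ) J₀ hks
  have hsupp : ξ ∉ ((J₁ * J₀ ^ n).support : Set X) := by
    rw [Scheme.IdealSheafData.support_mul]
    rintro (h | h)
    · exact hξQ h
    · have h' := (Scheme.IdealSheafData.mem_support_iff_of_mem (U := ⟨U, hU⟩) hξU).1 h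
      rw [Scheme.mem_zeroLocus_iff] at h'
      refine h' 1 ?_ (by rw [Scheme.basicOpen_of_isUnit _ isUnit_one]; exact hξU)
      rw [Scheme.IdealSheafData.ideal_pow, Pi.pow_apply]
      have : J₀.ideal ⟨U, hU⟩ = ⊤ := (Ideal.eq_top_iff_one _).2 (by
        rw [Scheme.IdealSheafData.vanishingIdeal_ideal, PrimeSpectrum.mem_vanishingIdeal]
        exact fun q hq => absurd (hU.range_fromSpec.le (Set.mem_range_self q)) hq)
      rw [this, Ideal.top_pow]
      trivial
  have hle₁ : ∀ V, (J₁ * J₀ ^ n).ideal V ≤ J₁.ideal V := fun V => by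
    rw [Scheme.IdealSheafData.ideal_mul, Pi.mul_apply]; exact (Ideal.mul_le_inf).trans inf_le_left
  have hle₀ : ∀ V, (J₁ * J₀ ^ n).ideal V ≤ (J₀ ^ n).ideal V := fun V => by
    rw [Scheme.IdealSheafData.ideal_mul, Pi.mul_apply]; exact (Ideal.mul_le_inf).trans inf_le_right
  obtain ⟨J, hJ⟩ : ∃ J, J = J₁ * J₀ ^ n := ⟨_, rfl⟩
  rw [← hJ] at hsupp hle₁ hle₀
  obtain ⟨J', hJ'⟩ : ∃ J', J' = J₀ ^ n := ⟨_, rfl⟩
  rw [← hJ'] at hle₀ hn
  clear hJ hJ'
  refine ⟨J, _, hsupp, rfl, fun G' l hl hG' hlu hsurj => ?_⟩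
  haveI := hl
  have hmem : ∀ (W : X.Opens) (hW : IsAffineOpen W) (x : Γ(G', W)),
      l.app W x ∈ J.ideal ⟨W, hW⟩ • (⊤ : Submodule Γ(X, W) Γ(G, W)) := fun W hW x => by
    have h := ((unit_app_closed J.subschemeι hG.1 hW).2 (l.app W x)).1 congr(($hlu).app W x)
    rw [Scheme.IdealSheafData.ker_subschemeι] at h
    exact h
  have hlq : (l ≫ ψ) ≫ cokernel.π ΘS = 0 := by
    have h0 : l ≫ Abelian.coimage.π q = 0 := hom_eq_zero_of_affine _ fun W hW x => by
      refine Submodule.smul_induction_on (p := fun z => (Abelian.coimage.π q).app W z = 0) (hmem W hW x)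
        (fun a ha z _ => ?_) fun z z' hz hz' => by rw [map_add, hz, hz', add_zero]
      rw [Scheme.Modules.Hom.app_smul]
      exact Module.mem_annihilator.1 (hle₁ ⟨W, hW⟩ ha) _
    rw [Category.assoc, show ψ ≫ cokernel.π ΘS = q from rfl, ← Abelian.coimage.fac q, ← Category.assoc,
      h0, zero_comp]
  haveI : Mono (l ≫ ψ) := Preadditive.mono_of_cancel_zero _ fun {W} g hg => by
    let u' := (Scheme.Modules.pullbackPushforwardAdjunction J'.subschemeι).unit.app G
    have hlu' : l ≫ u' = 0 := hom_eq_zero_of_affine _ fun W hW x => by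
      refine ((unit_app_closed J'.subschemeι hG.1 hW).2 (l.app W x)).2 ?_
      rw [Scheme.IdealSheafData.ker_subschemeι]
      exact Submodule.smul_mono_left (hle₀ ⟨W, hW⟩) (hmem W hW x)
    have h1 := kernel.lift_ι ψ (g ≫ l) ((Category.assoc _ _ _).trans hg)
    have h0 : kernel.lift ψ (g ≫ l) ((Category.assoc _ _ _).trans hg) ≫ (kernel.ι ψ ≫ u') = 0 := by
      rw [← Category.assoc, h1, Category.assoc, hlu', comp_zero]
    rw [zero_of_comp_mono (kernel.ι ψ ≫ u') h0] at h1
    exact zero_of_comp_mono l (h1.symm.trans zero_comp)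
  haveI : Mono ΘS := mono_comp _ _
  obtain ⟨t, ht⟩ := KernelFork.IsLimit.lift' (Abelian.monoIsKernelOfCokernel _ (cokernelIsCokernel ΘS))
    (l ≫ ψ) hlq
  haveI : Mono t := mono_of_mono_fac ht
  refine ⟨t, inferInstance, notMem_support_cokernel hG' hS.1 t hU hξU fun y => ?_⟩
  obtain ⟨m, hm⟩ := hψsurj (ΘS.app U y)
  obtain ⟨z, hz⟩ := hsurj (G.presheaf.germ U ξ hξU m)
  obtain ⟨W, hξW, w, rfl⟩ := TopCat.Presheaf.exists_germ_eq G'.presheaf z
  rw [TopCat.Presheaf.stalkFunctor_map_germ_apply] at hz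
  obtain ⟨g, hg, hξg⟩ := hU.exists_basicOpen_le ⟨ξ, hξW⟩ hξU
  obtain ⟨k, g', hg'⟩ := exists_pow_smul_eq_map hG' hU g (G'.presheaf.map (homOfLE hg).op w)
  have h0 : G.presheaf.germ U ξ hξU (g ^ k • m - l.app U g') = 0 := by
    rw [map_sub, sub_eq_zero, germ_smul', ← hz]
    rw [← G.presheaf.germ_res_apply (homOfLE (X.basicOpen_le g)) ξ hξg (l.app U g'), ← map_app_comm, hg',
      Scheme.Modules.Hom.app_smul, germ_smul', map_app_comm, G.presheaf.germ_res_apply, map_pow, map_pow,
      X.presheaf.germ_res_apply]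
    rfl
  obtain ⟨h, hξh, hh⟩ := (germ_eq_zero_iff hG.1 hU hξU _).1 h0
  refine ⟨h * g ^ k, ?_, h • g', app_injective ΘS U ?_⟩
  · rw [Scheme.basicOpen_mul]
    exact ⟨hξh, basicOpen_pow_of_mem g hξU hξg k⟩
  rw [smul_sub, sub_eq_zero, ← mul_smul] at hh
  refine ((congr(($ht).app U (h • g')) : ΘS.app U (t.app U (h • g')) = ψ.app U (l.app U (h • g')))).trans ?_
  rw [Scheme.Modules.Hom.app_smul l, ← hh, Scheme.Modules.Hom.app_smul, hm, ← Scheme.Modules.Hom.app_smul]

end Groth.Agent.QCoh
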