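import Groth.Agent.QCoh.GodMV
import Groth.Prelude.Def_Formal

/-!
# Additivity and linearity of the functoriality of Godement resolutions
-/

set_option backward.isDefEq.respectTransparency false
set_option backward.isDefEq.respectTransparency.types false

universe u

open CategoryTheory CategoryTheory.Limits AlgebraicGeometry TopologicalSpace Opposite

namespace Groth.Agent.QCoh

variable {X X' : Scheme.{u}} (φ : X' ⟶ X) {M : X.Modules} {M' : X'.Modules}

theorem stkMap_add (η η' : M ⟶ (Scheme.Modules.pushforward φ).obj M') (y : X') (m : stk M (φ.base y)) :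
    stkMap φ (η + η') y m = stkMap φ η y m + stkMap φ η' y m := by
  obtain ⟨U, hU, s, rfl⟩ := exists_germM M m
  rw [stkMap_germM, stkMap_germM, stkMap_germM]
  exact map_add (germM M' (φ ⁻¹ᵁ U) hU) (η.app U s) (η'.app U s)

theorem godMap_add (η η' : M ⟶ (Scheme.Modules.pushforward φ).obj M') :
    godMap φ (η + η') = godMap φ η + godMap φ η' := by
  refine Scheme.Modules.hom_ext _ _ ?_
  intro U
  ext s
  exact funext fun y => stkMap_add φ η η' y.1 _

theorem godQMap_add (η η' : M ⟶ (Scheme.Modules.pushforward φ).obj M') :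
    ∀ n, godQMap φ (η + η') n = godQMap φ η n + godQMap φ η' n
  | 0 => rfl
  | n + 1 => by
    haveI : Epi (godπ M n) := inferInstanceAs (Epi (cokernel.π (toGod (godQ M n))))
    rw [← cancel_epi (godπ M n), Preadditive.comp_add, godπ_godQMap, godπ_godQMap, godπ_godQMap,
      godQMap_add η η' n, godMap_add, Preadditive.add_comp]

theorem smulModΓ_app {N : X.Modules} (r : Coh.Γtop X) (U : X.Opens) (x : Γ(N, U)) :
    (Formal.smulModΓ N r).app U x = X.presheaf.map (homOfLE (le_top : U ≤ ⊤)).op r • x :=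
  rfl

theorem smulModΓ_comp {N N' : X.Modules} (f : N ⟶ N') (r : Coh.Γtop X) :
    Formal.smulModΓ N r ≫ f = f ≫ Formal.smulModΓ N' r := by
  refine Scheme.Modules.hom_ext _ _ ?_
  intro U
  ext x
  exact Scheme.Modules.Hom.app_smul f (Coh.resTop X (op U) r) x

theorem stkMap_smulModΓ (η : M ⟶ (Scheme.Modules.pushforward φ).obj M') (r : Coh.Γtop X') (y : X')
    (m : stk M (φ.base y)) :
    stkMap φ (η ≫ (Scheme.Modules.pushforward φ).map (Formal.smulModΓ M' r)) y m =
      X'.presheaf.germ ⊤ y trivial r • stkMap φ η y m := by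
  obtain ⟨U, hU, s, rfl⟩ := exists_germM M m
  rw [stkMap_germM, stkMap_germM]
  refine (germM_smul M' (φ ⁻¹ᵁ U) hU (Coh.resTop X' (op (φ ⁻¹ᵁ U)) r) (η.app U s)).trans ?_
  exact congrArg (fun t => t • germM M' (φ ⁻¹ᵁ U) hU (η.app U s))
    (TopCat.Presheaf.germ_res_apply X'.presheaf (homOfLE (le_top : φ ⁻¹ᵁ U ≤ ⊤)) y hU r)

theorem godMap_smulModΓ (η : M ⟶ (Scheme.Modules.pushforward φ).obj M') (r : Coh.Γtop X') :
    godMap φ (η ≫ (Scheme.Modules.pushforward φ).map (Formal.smulModΓ M' r)) =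
      godMap φ η ≫ (Scheme.Modules.pushforward φ).map (Formal.smulModΓ (God M') r) := by
  refine Scheme.Modules.hom_ext _ _ ?_
  intro U
  ext s
  refine funext fun y => (stkMap_smulModΓ φ η r y.1 _).trans ?_
  exact congrArg (fun t => t • stkMap φ η y.1 (godVal s (φ.base y.1) y.2))
    (TopCat.Presheaf.germ_res_apply X'.presheaf (homOfLE (le_top : φ ⁻¹ᵁ U ≤ ⊤)) y.1 y.2 r).symm

theorem godQMap_smulModΓ (η : M ⟶ (Scheme.Modules.pushforward φ).obj M') (r : Coh.Γtop X') :
    ∀ n, godQMap φ (η ≫ (Scheme.Modules.pushforward φ).map (Formal.smulModΓ M' r)) n =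
      godQMap φ η n ≫ (Scheme.Modules.pushforward φ).map (Formal.smulModΓ (godQ M' n) r)
  | 0 => rfl
  | n + 1 => by
    haveI : Epi (godπ M n) := inferInstanceAs (Epi (cokernel.π (toGod (godQ M n))))
    rw [← cancel_epi (godπ M n), godπ_godQMap, godQMap_smulModΓ η r n, godMap_smulModΓ,
      ← Category.assoc (godπ M n), godπ_godQMap, Category.assoc, Category.assoc, ← Functor.map_comp,
      ← Functor.map_comp, smulModΓ_comp]

/-- `secMap` of the Godement functoriality is additive in the map. -/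
theorem secMap_godQMap_add (η η' : M ⟶ (Scheme.Modules.pushforward φ).obj M') (n : ℕ) {V : X.Opens} {W : X'.Opens}
    (h : W ≤ φ ⁻¹ᵁ V) (x : Γ(God (godQ M n), V)) :
    secMap φ (godMap φ (godQMap φ (η + η') n)) h x =
      secMap φ (godMap φ (godQMap φ η n)) h x + secMap φ (godMap φ (godQMap φ η' n)) h x := by
  rw [godQMap_add, godMap_add]
  unfold secMap
  exact map_add ((God (godQ M' n)).presheaf.map (homOfLE h).op).hom _ _

theorem secMap_godQMap_smulModΓ (η : M ⟶ (Scheme.Modules.pushforward φ).obj M') (r : Coh.Γtop X') (n : ℕ) {V : X.Opens}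
    {W : X'.Opens} (h : W ≤ φ ⁻¹ᵁ V) (x : Γ(God (godQ M n), V)) :
    secMap φ (godMap φ (godQMap φ (η ≫ (Scheme.Modules.pushforward φ).map (Formal.smulModΓ M' r)) n)) h x =
      X'.presheaf.map (homOfLE (le_top : W ≤ ⊤)).op r • secMap φ (godMap φ (godQMap φ η n)) h x := by
  rw [godQMap_smulModΓ, godMap_smulModΓ]
  unfold secMap
  refine (map_smul' (M := God (godQ M' n)) (homOfLE h) _ _).trans ?_
  exact congrArg (· • _) (ringMap_map _ _ _)

end Groth.Agent.QCoh
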