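import Groth.Agent.QCoh.GodBC
import Groth.Agent.QCoh.GodFun
import Mathlib.LinearAlgebra.TensorProduct.Tower

/-!
# Base change in cohomology along a flat module
-/

set_option backward.isDefEq.respectTransparency false
set_option backward.isDefEq.respectTransparency.types false
set_option linter.style.haveILetI false
set_option synthInstance.maxHeartbeats 400000

universe u

open CategoryTheory CategoryTheory.Limits AlgebraicGeometry TopologicalSpace Opposite
open scoped TensorProduct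

namespace Groth.Agent.QCoh

variable {A B : Type u} [CommRing A] [CommRing B] [Algebra A B]
  (N : Type u) [AddCommGroup N] [Module B N] [Module A N] [IsScalarTower A B N]

/-- `K ↦ N ⊗_A K`. -/
noncomputable def modFunctor : ModuleCat.{u} A ⥤ ModuleCat.{u} B where
  obj K := ModuleCat.of B (N ⊗[A] K)
  map f := ModuleCat.ofHom (TensorProduct.AlgebraTensorModule.map (LinearMap.id : N →ₗ[B] N) f.hom)
  map_id K := ModuleCat.hom_ext TensorProduct.AlgebraTensorModule.map_id
  map_comp f g := ModuleCat.hom_ext <|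
    TensorProduct.AlgebraTensorModule.map_comp (LinearMap.id : N →ₗ[B] N) LinearMap.id g.hom f.hom

instance : (modFunctor (A := A) (B := B) N).Additive where
  map_add {K L f g} := ModuleCat.hom_ext <| LinearMap.ext fun z => by
    induction z using TensorProduct.induction_on with
    | zero => simp
    | tmul n x => exact TensorProduct.tmul_add n (f.hom x) (g.hom x)
    | add a b ha hb => rw [map_add, map_add, ha, hb]

theorem modFunctor_preservesHomology [Module.Flat A N] : (modFunctor (A := A) (B := B) N).PreservesHomology :=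
  ((Functor.exact_tfae (modFunctor (A := A) (B := B) N)).out 1 2).1 fun S hS => by
    rw [ShortComplex.ShortExact.moduleCat_exact_iff_function_exact] at hS ⊢
    exact Module.Flat.lTensor_exact N hS

section pair

variable {K L : CochainComplex (ModuleCat.{u} A) ℕ} {K' L' : CochainComplex (ModuleCat.{u} B) ℕ}
  (φ : N → (K ⟶ ((ModuleCat.restrictScalars (algebraMap A B)).mapHomologicalComplex _).obj K'))
  (hadd : ∀ n n' i (x : K.X i), (show K'.X i from (φ (n + n')).f i x) = (show K'.X i from (φ n).f i x) + (show K'.X i from (φ n').f i x))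
  (hsmul : ∀ (b : B) n i (x : K.X i), (show K'.X i from (φ (b • n)).f i x) = b • (show K'.X i from (φ n).f i x))

/-- The map `N ⊗ K → K'` attached to a pairing, in one degree. -/
noncomputable def pairMap (i : ℕ) : (modFunctor (B := B) N).obj (K.X i) ⟶ K'.X i :=
  letI : Module A (K'.X i) := Module.compHom (K'.X i) (algebraMap A B)
  haveI : IsScalarTower A B (K'.X i) := .of_algebraMap_smul fun _ _ => rfl
  ModuleCat.ofHom (TensorProduct.AlgebraTensorModule.lift
    ({ toFun := fun n =>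
        ({ toFun := fun x => (show K'.X i from (φ n).f i x)
           map_add' := ((φ n).f i).hom.map_add
           map_smul' := ((φ n).f i).hom.map_smul } : K.X i →ₗ[A] K'.X i)
       map_add' := fun n n' => LinearMap.ext (hadd n n' i)
       map_smul' := fun b n => LinearMap.ext (hsmul b n i) } : N →ₗ[B] K.X i →ₗ[A] K'.X i))

theorem pairMap_tmul (i : ℕ) (n : N) (x : K.X i) :
    (pairMap N φ hadd hsmul i).hom (n ⊗ₜ[A] x : N ⊗[A] K.X i) = (show K'.X i from (φ n).f i x) :=
  rfl

/-- The map of complexes `N ⊗ K → K'` attached to a pairing. -/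
noncomputable def pairHom : ((modFunctor (B := B) N).mapHomologicalComplex _).obj K ⟶ K' where
  f i := pairMap N φ hadd hsmul i
  comm' i j _ :=
    letI : Module A (K'.X j) := Module.compHom (K'.X j) (algebraMap A B)
    haveI : IsScalarTower A B (K'.X j) := .of_algebraMap_smul fun _ _ => rfl
    ModuleCat.hom_ext (TensorProduct.AlgebraTensorModule.ext (R := A) (A := B) (M := N) (N := K.X i) (P := K'.X j)
      fun n x => ConcreteCategory.congr_hom ((φ n).comm i j) x)

theorem pairHom_natural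
    (ψ : N → (L ⟶ ((ModuleCat.restrictScalars (algebraMap A B)).mapHomologicalComplex _).obj L'))
    (hadd' : ∀ n n' i (x : L.X i), (show L'.X i from (ψ (n + n')).f i x) = (show L'.X i from (ψ n).f i x) + (show L'.X i from (ψ n').f i x))
    (hsmul' : ∀ (b : B) n i (x : L.X i), (show L'.X i from (ψ (b • n)).f i x) = b • (show L'.X i from (ψ n).f i x))
    (f : K ⟶ L) (f' : K' ⟶ L') (h : ∀ n i x, (show L'.X i from (ψ n).f i (f.f i x)) = f'.f i (show K'.X i from (φ n).f i x)) :
    ((modFunctor (B := B) N).mapHomologicalComplex _).map f ≫ pairHom N ψ hadd' hsmul' =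
      pairHom N φ hadd hsmul ≫ f' := by
  ext i : 1
  let : Module A (L'.X i) := Module.compHom (L'.X i) (algebraMap A B)
  have : IsScalarTower A B (L'.X i) := .of_algebraMap_smul fun _ _ => rfl
  exact ModuleCat.hom_ext (TensorProduct.AlgebraTensorModule.ext (R := A) (A := B) (M := N) (N := K.X i) (P := L'.X i)
    fun n x => h n i x)

theorem modFunctor_map_shortExact [Module.Flat A N] {K L P : CochainComplex (ModuleCat.{u} A) ℕ} {f : K ⟶ L}
    {g : L ⟶ P} {w : f ≫ g = 0}
    (w' : ((modFunctor (B := B) N).mapHomologicalComplex _).map f ≫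
      ((modFunctor (B := B) N).mapHomologicalComplex _).map g = 0)
    (h : (ShortComplex.mk f g w).ShortExact) : (ShortComplex.mk _ _ w').ShortExact := by
  refine HomologicalComplex.shortExact_of_degreewise_shortExact _ fun n => ?_
  haveI := modFunctor_preservesHomology (A := A) (B := B) N
  haveI := (modFunctor (A := A) (B := B) N).preservesFiniteLimits_of_preservesHomology
  haveI := (modFunctor (A := A) (B := B) N).preservesFiniteColimits_of_preservesHomology
  have := (h.map_of_exact (HomologicalComplex.eval _ _ n)).map_of_exact (modFunctor (A := A) (B := B) N)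
  exact this

end pair

variable {X X' : Scheme.{u}} (φ : X' ⟶ X) (ρ : A →+* Coh.Γtop X) (ρ' : B →+* Coh.Γtop X')
  (hρ : ∀ a, ρ' (algebraMap A B a) = φ.appTop (ρ a)) {M : X.Modules} {M' : X'.Modules}
  (η : N → (M ⟶ (Scheme.Modules.pushforward φ).obj M'))
  (hadd : ∀ n n', η (n + n') = η n + η n')
  (hsmul : ∀ (b : B) n, η (b • n) = η n ≫ (Scheme.Modules.pushforward φ).map (Formal.smulModΓ M' (ρ' b)))

/-- The base change map of Godement complexes along a module. -/
noncomputable def godPair (W : X.Opens) :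
    ((modFunctor (B := B) N).mapHomologicalComplex _).obj (godCx ρ W M) ⟶ godCx ρ' (φ ⁻¹ᵁ W) M' :=
  pairHom N (fun n => godCxMap φ (η n) ρ ρ' hρ le_rfl)
    (fun n n' i x => by
      refine Eq.trans ?_ (secMap_godQMap_add φ (η n) (η n') i le_rfl x)
      exact congrArg (fun f => secMap φ (godMap φ (godQMap φ f i)) le_rfl x) (hadd n n'))
    (fun b n i x => by
      refine Eq.trans ?_ (secMap_godQMap_smulModΓ φ (η n) (ρ' b) i le_rfl x)
      exact congrArg (fun f => secMap φ (godMap φ (godQMap φ f i)) le_rfl x) (hsmul b n))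

theorem godPair_res {V W : X.Opens} (h : V ≤ W) :
    ((modFunctor (B := B) N).mapHomologicalComplex _).map (godRes ρ M h) ≫ godPair N φ ρ ρ' hρ η hadd hsmul V =
      godPair N φ ρ ρ' hρ η hadd hsmul W ≫ godRes ρ' M' (φ.preimage_mono h) := by
  refine pairHom_natural N _ _ _ _ _ _ _ _ fun m n (x : Γ(God (godQ M n), W)) => ?_
  show secMap φ (godMap φ (godQMap φ (η m) n)) (le_rfl : φ ⁻¹ᵁ V ≤ φ ⁻¹ᵁ V)
      ((God (godQ M n)).presheaf.map (homOfLE h).op x) =
    (God (godQ M' n)).presheaf.map (homOfLE (φ.preimage_mono h)).op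
      (secMap φ (godMap φ (godQMap φ (η m) n)) (le_rfl : φ ⁻¹ᵁ W ≤ φ ⁻¹ᵁ W) x)
  rw [secMap_map, map_secMap]

include hρ in
theorem quasiIso_godPair_sup [Module.Flat A N] (U V : X.Opens)
    (hU : QuasiIso (godPair N φ ρ ρ' hρ η hadd hsmul U)) (hV : QuasiIso (godPair N φ ρ ρ' hρ η hadd hsmul V))
    (hUV : QuasiIso (godPair N φ ρ ρ' hρ η hadd hsmul (U ⊓ V))) :
    QuasiIso (godPair N φ ρ ρ' hρ η hadd hsmul (U ⊔ V)) := by
  let E := (modFunctor (A := A) (B := B) N).mapHomologicalComplex (ComplexShape.up ℕ)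
  have z₀ : E.map (biprod.lift (godRes ρ M (le_sup_left : U ≤ U ⊔ V)) (godRes ρ M (le_sup_right : V ≤ U ⊔ V))) ≫
      E.map (biprod.fst ≫ godRes ρ M (inf_le_left : U ⊓ V ≤ U) - biprod.snd ≫ godRes ρ M (inf_le_right : U ⊓ V ≤ V)) = 0 := by
    rw [← Functor.map_comp, mvZero, Functor.map_zero]
  have hS := modFunctor_map_shortExact (B := B) N z₀ (mvSC_shortExact' ρ M (U := U) (V := V) (W := U ⊔ V)
    (P := U ⊓ V) rfl rfl le_sup_left le_sup_right inf_le_left inf_le_right)
  have hS' := mvSC_shortExact' ρ' M' (U := φ ⁻¹ᵁ U) (V := φ ⁻¹ᵁ V) (W := φ ⁻¹ᵁ (U ⊔ V)) (P := φ ⁻¹ᵁ (U ⊓ V))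
    (Opens.ext Set.preimage_union) (Opens.ext Set.preimage_inter) (φ.preimage_mono le_sup_left)
    (φ.preimage_mono le_sup_right) (φ.preimage_mono inf_le_left) (φ.preimage_mono inf_le_right)
  have c₁ := (godPair_res N φ ρ ρ' hρ η hadd hsmul (le_sup_left : U ≤ U ⊔ V)).symm
  have c₂ := (godPair_res N φ ρ ρ' hρ η hadd hsmul (le_sup_right : V ≤ U ⊔ V)).symm
  have d₁ := godPair_res N φ ρ ρ' hρ η hadd hsmul (inf_le_left : U ⊓ V ≤ U)
  have d₂ := godPair_res N φ ρ ρ' hρ η hadd hsmul (inf_le_right : U ⊓ V ≤ V)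
  exact quasiIso_mv E _ _ _ _ z₀ _ c₁ c₂ d₁ d₂ hS hS' hU hV hUV

/-- The sections change base on every affine open. -/
def IsAffineBCMod : Prop :=
  ∀ V : X.Opens, IsAffineOpen V →
    letI := secModule ρ M V
    letI := secModule ρ' M' (φ ⁻¹ᵁ V)
    ∃ e : N ⊗[A] Γ(M, V) ≃ₗ[B] Γ(M', φ ⁻¹ᵁ V), ∀ n x, e (n ⊗ₜ[A] x) = secMap φ (η n) le_rfl x

variable [Module.Flat A N] [IsAffineHom φ] (hM : Coh.IsQCoh M) (hM' : Coh.IsQCoh M')
  (hbc : IsAffineBCMod N φ ρ ρ' η)

include hM hM' hbc in
theorem quasiIso_godPair_affine {V : X.Opens} (hV : IsAffineOpen V) :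
    QuasiIso (godPair N φ ρ ρ' hρ η hadd hsmul V) := by
  rw [quasiIso_iff]
  haveI := modFunctor_preservesHomology (A := A) (B := B) N
  intro i
  cases i with
  | succ n =>
    rw [quasiIsoAt_iff_exactAt']
    · exact (godCx_exactAt ρ (subsingleton_HU_of_isAffineOpen hM hV n)).map (modFunctor (B := B) N)
    · exact godCx_exactAt ρ' (subsingleton_HU_of_isAffineOpen hM' (hV.preimage φ) n)
  | zero =>
    letI := secModule ρ M V
    letI := secModule ρ' M' (φ ⁻¹ᵁ V)
    letI := secModule ρ (God (godQ M 0)) V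
    letI := secModule ρ' (God (godQ M' 0)) (φ ⁻¹ᵁ V)
    obtain ⟨e, he⟩ := hbc V hV
    let a₀ : ModuleCat.of A Γ(M, V) ⟶ (godCx ρ V M).X 0 := ModuleCat.ofHom (godAug ρ V M)
    let a' : ModuleCat.of B Γ(M', φ ⁻¹ᵁ V) ⟶ (godCx ρ' (φ ⁻¹ᵁ V) M').X 0 := ModuleCat.ofHom (godAug ρ' (φ ⁻¹ᵁ V) M')
    let b : (modFunctor (B := B) N).obj (ModuleCat.of A Γ(M, V)) ⟶ ModuleCat.of B Γ(M', φ ⁻¹ᵁ V) :=
      e.toModuleIso.hom
    haveI : IsIso b := inferInstanceAs (IsIso e.toModuleIso.hom)
    have hexact : Function.Exact a₀.hom ((godCx ρ V M).d 0 1).hom := fun y =>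
      ⟨fun hy => (godAug_bijective ρ V M).2 y hy, by rintro ⟨x, rfl⟩; exact godAug_d ρ V M x⟩
    refine quasiIsoAt_zero_of_aug _ ((modFunctor (B := B) N).map a₀) a' b ?_
      (godAug_bijective ρ' (φ ⁻¹ᵁ V) M').1 ?_ ?_ ?_ (godAug_bijective ρ' (φ ⁻¹ᵁ V) M').2 ?_
    · exact Module.Flat.lTensor_preserves_injective_linearMap (M := N) a₀.hom (godAug_bijective ρ V M).1
    · show (modFunctor (B := B) N).map a₀ ≫ (modFunctor (B := B) N).map ((godCx ρ V M).d 0 1) = 0
      rw [← Functor.map_comp, show a₀ ≫ (godCx ρ V M).d 0 1 = 0 from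
        ModuleCat.hom_ext (LinearMap.ext (godAug_d ρ V M)), Functor.map_zero]
    · exact ModuleCat.hom_ext (LinearMap.ext (godAug_d ρ' (φ ⁻¹ᵁ V) M'))
    · intro y hy
      exact (Module.Flat.lTensor_exact N hexact y).1 hy
    · let : Module A ((godCx ρ' (φ ⁻¹ᵁ V) M').X 0) := Module.compHom _ (algebraMap A B)
      have : IsScalarTower A B ((godCx ρ' (φ ⁻¹ᵁ V) M').X 0) := .of_algebraMap_smul fun _ _ => rfl
      refine ModuleCat.hom_ext (TensorProduct.AlgebraTensorModule.ext (R := A) (A := B) (M := N) (N := Γ(M, V))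
        (P := (godCx ρ' (φ ⁻¹ᵁ V) M').X 0) fun s (m : Γ(M, V)) => ?_)
      refine (godCxMap_aug φ (η s) ρ ρ' hρ le_rfl m).trans ?_
      exact congrArg a'.hom (he s m).symm

include hM hM' hbc in
theorem quasiIso_godPair_basic {V : X.Opens} (hV : IsAffineOpen V) :
    ∀ (t : ℕ) (g : Fin t → Γ(X, V)), QuasiIso (godPair N φ ρ ρ' hρ η hadd hsmul (⨆ i, X.basicOpen (g i))) := by
  intro t
  induction t with
  | zero =>
    intro g
    rw [iSup_of_empty]
    exact quasiIso_godPair_affine N φ ρ ρ' hρ η hadd hsmul hM hM' hbc (isAffineOpen_bot X)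
  | succ t ih =>
    intro g
    rw [show (⨆ i, X.basicOpen (g i)) = X.basicOpen (g 0) ⊔ ⨆ i : Fin t, X.basicOpen (g i.succ) from
      le_antisymm (iSup_le fun i => Fin.cases le_sup_left
        (fun j => le_sup_of_le_right (le_iSup (fun i : Fin t => X.basicOpen (g i.succ)) j)) i)
        (sup_le (le_iSup (fun i => X.basicOpen (g i)) 0) (iSup_le fun i => le_iSup (fun i => X.basicOpen (g i)) i.succ))]
    refine quasiIso_godPair_sup N φ ρ ρ' hρ η hadd hsmul _ _
      (quasiIso_godPair_affine N φ ρ ρ' hρ η hadd hsmul hM hM' hbc (hV.basicOpen (g 0))) (ih fun i => g i.succ) ?_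
    rw [inf_iSup_eq, show (fun i : Fin t => X.basicOpen (g 0) ⊓ X.basicOpen (g i.succ)) =
      fun i : Fin t => X.basicOpen (g 0 * g i.succ) from funext fun i => (X.basicOpen_mul _ _).symm]
    exact ih _

include hM hM' hbc in
theorem quasiIso_godPair_of_le {V W : X.Opens} (hV : IsAffineOpen V) (hW : IsCompact (W : Set X)) (hWV : W ≤ V) :
    QuasiIso (godPair N φ ρ ρ' hρ η hadd hsmul W) := by
  have h : ∀ x : W, ∃ g : Γ(X, V), X.basicOpen g ≤ W ∧ x.1 ∈ X.basicOpen g := fun x =>
    hV.exists_basicOpen_le ⟨x.1, x.2⟩ (hWV x.2)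
  choose g hg hxg using h
  obtain ⟨s, hs⟩ := hW.elim_finite_subcover (fun x : W => (X.basicOpen (g x) : Set X))
    (fun x => (X.basicOpen (g x)).2) (fun x hx => Set.mem_iUnion.2 ⟨⟨x, hx⟩, hxg ⟨x, hx⟩⟩)
  have e : (⨆ i, X.basicOpen (g (s.equivFin.symm i).1)) = W := by
    refine le_antisymm (iSup_le fun i => hg _) fun x hx => ?_
    obtain ⟨y, hy, hxy⟩ := Set.mem_iUnion₂.1 (hs hx)
    exact Opens.mem_iSup.2 ⟨s.equivFin ⟨y, hy⟩, by rw [Equiv.symm_apply_apply]; exact hxy⟩
  rw [← e]
  exact quasiIso_godPair_basic N φ ρ ρ' hρ η hadd hsmul hM hM' hbc hV _ _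

include hM hM' hbc in
theorem quasiIso_godPair_qc [QuasiSeparatedSpace X] :
    ∀ (t : ℕ) (U : Fin t → X.Opens), (∀ i, IsAffineOpen (U i)) →
      QuasiIso (godPair N φ ρ ρ' hρ η hadd hsmul (⨆ i, U i)) := by
  intro t
  induction t with
  | zero =>
    intro U _
    rw [iSup_of_empty]
    exact quasiIso_godPair_affine N φ ρ ρ' hρ η hadd hsmul hM hM' hbc (isAffineOpen_bot X)
  | succ t ih =>
    intro U hU
    rw [show (⨆ i, U i) = U 0 ⊔ ⨆ i : Fin t, U i.succ from
      le_antisymm (iSup_le fun i => Fin.cases le_sup_left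
        (fun j => le_sup_of_le_right (le_iSup (fun i : Fin t => U i.succ) j)) i)
        (sup_le (le_iSup _ _) (iSup_le fun i => le_iSup _ _))]
    refine quasiIso_godPair_sup N φ ρ ρ' hρ η hadd hsmul _ _
      (quasiIso_godPair_affine N φ ρ ρ' hρ η hadd hsmul hM hM' hbc (hU 0)) (ih _ fun i => hU i.succ)
      (quasiIso_godPair_of_le N φ ρ ρ' hρ η hadd hsmul hM hM' hbc (hU 0) ?_ inf_le_left)
    rw [Opens.coe_inf, Opens.coe_iSup, Set.inter_iUnion]
    exact isCompact_iUnion fun i =>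
      QuasiSeparatedSpace.inter_isCompact _ _ (U 0).2 (hU 0).isCompact (U i.succ).2 (hU i.succ).isCompact

include hρ hadd hsmul hM hM' hbc in
/-- Base change along a flat module in cohomology on a quasi-compact quasi-separated scheme. -/
theorem HH_baseChangeMod_qcqs [CompactSpace X] [QuasiSeparatedSpace X] (n : ℕ) :
    letI := modHH ρ M n
    letI := modHH ρ' M' n
    Nonempty (N ⊗[A] Coh.HH X M n ≃ₗ[B] Coh.HH X' M' n) := by
  let := modHH ρ M n
  let := modHH ρ' M' n
  obtain ⟨s, hs, hcov⟩ := isCompact_iff_finite_and_eq_biUnion_affineOpens.mp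
    (show IsCompact ((⊤ : X.Opens) : Set X) from isCompact_univ)
  let U : Fin hs.toFinset.card → X.Opens := fun i => (hs.toFinset.equivFin.symm i).1.1
  have hU : (⨆ i, U i) = ⊤ := by
    rw [hcov]
    refine le_antisymm (iSup_le fun i => ?_) (iSup₂_le fun W hW => ?_)
    · exact le_iSup₂ (f := fun (W : X.affineOpens) (_ : W ∈ s) => W.1) _
        (hs.mem_toFinset.1 (hs.toFinset.equivFin.symm i).2)
    · refine le_trans ?_ (le_iSup U (hs.toFinset.equivFin ⟨W, hs.mem_toFinset.2 hW⟩))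
      simp [U]
  have hq : QuasiIso (godPair N φ ρ ρ' hρ η hadd hsmul ⊤) := by
    rw [← hU]
    exact quasiIso_godPair_qc N φ ρ ρ' hρ η hadd hsmul hM hM' hbc _ U fun i => (hs.toFinset.equivFin.symm i).1.2
  obtain ⟨e⟩ := godCx_homology_equiv ρ M n
  obtain ⟨e'⟩ := godCx_homology_equiv ρ' M' n
  haveI := modFunctor_preservesHomology (A := A) (B := B) N
  let i₁ := (((godCx ρ ⊤ M).sc n).mapHomologyIso (modFunctor (A := A) (B := B) N)).symm
  let i₂ := isoOfQuasiIsoAt (godPair N φ ρ ρ' hρ η hadd hsmul ⊤) n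
  exact ⟨(TensorProduct.AlgebraTensorModule.congr (LinearEquiv.refl B N) e.symm).trans
    ((i₁ ≪≫ i₂).toLinearEquiv.trans e')⟩

end Groth.Agent.QCoh
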