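import Groth.Agent.QCoh.VanIdeal
import Groth.Agent.QCoh.Support
import Groth.Agent.QCoh.RpushAbGod
import Groth.Agent.VeryAmpleX.DegOne

/-!
# Affineness of a morphism from the vanishing of `R¹f_*` of ideals of vanishing functions
-/

set_option autoImplicit false
set_option linter.style.haveILetI false
set_option backward.isDefEq.respectTransparency false
set_option backward.isDefEq.respectTransparency.types false

universe u

open CategoryTheory CategoryTheory.Limits AlgebraicGeometry TopologicalSpace Opposite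

namespace Groth.Agent.QCoh.AffCritVan

variable {X Y : Scheme.{u}}

/-- The value of a section at a point. -/
noncomputable def ev {U : X.Opens} (z : X) (hz : z ∈ U) : Γ(X, U) →+* X.residueField z :=
  (X.presheaf.germ U z hz ≫ X.residue z).hom

theorem ev_eq_zero_iff {U : X.Opens} (z : X) (hz : z ∈ U) (s : Γ(X, U)) :
    ev z hz s = 0 ↔ z ∉ X.basicOpen s := by
  rw [notMem_basicOpen_iff s z hz]
  exact IsLocalRing.residue_eq_zero_iff _

theorem ev_map {U V : X.Opens} (h : V ≤ U) (z : X) (hz : z ∈ V) (s : Γ(X, U)) :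
    ev z hz (X.presheaf.map (homOfLE h).op s) = ev z (h hz) s := by
  simp only [ev, CommRingCat.hom_comp, RingHom.comp_apply, TopCat.Presheaf.germ_res_apply]

/-- The quotient of the structure module by the functions vanishing on `Z`. -/
noncomputable abbrev qπ (Z : Set X) : Coh.structureModule X ⟶ cokernel (vanIdeal Z).ι := cokernel.π _

theorem qπ_eq_zero_iff (Z : Set X) (U : X.Opens) (s : Γ(Coh.structureModule X, U)) :
    (qπ Z).app U s = 0 ↔ ∀ z ∈ Z, z ∉ X.basicOpen (toFn s) := by
  refine ⟨fun h => ?_, fun h => ?_⟩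
  · obtain ⟨b, hb⟩ := VeryAmpleX.exists_app_kernel_ι (qπ Z) U s h
    haveI : Mono (vanIdeal Z).ι := inferInstance
    let k := (Abelian.monoIsKernelOfCokernel (CokernelCofork.ofπ (cokernel.π (vanIdeal Z).ι)
      (cokernel.condition _)) (cokernelIsCokernel _)).lift (KernelFork.ofι (kernel.ι (qπ Z)) (kernel.condition _))
    have hk : k ≫ (vanIdeal Z).ι = kernel.ι (qπ Z) := (Abelian.monoIsKernelOfCokernel (CokernelCofork.ofπ
      (cokernel.π (vanIdeal Z).ι) (cokernel.condition _)) (cokernelIsCokernel _)).fac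
      (KernelFork.ofι (kernel.ι (qπ Z)) (kernel.condition _)) WalkingParallelPair.zero
    rw [← hb, ← hk]
    exact (vanIdeal Z).ι_app_mem U (k.app U b)
  · obtain ⟨t, ht⟩ := (vanIdeal Z).exists_app_eq (U := U) (s := s) h
    rw [← ht]
    exact congrArg (fun χ : (vanIdeal Z).toModules ⟶ cokernel (vanIdeal Z).ι => χ.app U t) (cokernel.condition _)

/-- Vanishing of the first higher direct image makes the direct image of the quotient map an epimorphism. -/
theorem epi_push_qπ (f : X ⟶ Y) (Z : Set X)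
    (h : IsZero ((Coh.RpushAb f 1).obj (Coh.toAb (vanIdeal Z).toModules))) : Epi ((Coh.push f).map (qπ Z)) := by
  haveI := preservesFiniteLimits_pushAb f
  let S : ShortComplex X.Modules := ShortComplex.mk (vanIdeal Z).ι (qπ Z) (cokernel.condition _)
  have hS : S.ShortExact :=
    { exact := ShortComplex.exact_cokernel _
      mono_f := inferInstanceAs (Mono (vanIdeal Z).ι)
      epi_g := inferInstanceAs (Epi (qπ Z)) }
  let := HasDerivedCategory.standard (Sheaf (Opens.grothendieckTopology X) AddCommGrpCat.{u})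
  let := HasDerivedCategory.standard (Sheaf (Opens.grothendieckTopology Y) AddCommGrpCat.{u})
  obtain ⟨δ, w₁, w₂, w₃, -, e₂, e₃⟩ := TriCat.exists_rightDerived_ses (Coh.pushAb f) (toAb_shortExact hS) 0
  have h0 : Epi (((Coh.pushAb f).rightDerived 0).map (S.map (toAbFunctor X)).g) :=
    e₂.epi_f (h.eq_of_tgt _ _)
  haveI : Epi ((Coh.pushAb f).map (S.map (toAbFunctor X)).g) := by
    haveI := h0
    have e := (Coh.pushAb f).rightDerivedZeroIsoSelf.hom.naturality (S.map (toAbFunctor X)).g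
    haveI : Epi ((Coh.pushAb f).rightDerivedZeroIsoSelf.hom.app (S.map (toAbFunctor X)).X₂ ≫
        (Coh.pushAb f).map (S.map (toAbFunctor X)).g) := by
      rw [← e]
      infer_instance
    exact epi_of_epi ((Coh.pushAb f).rightDerivedZeroIsoSelf.hom.app (S.map (toAbFunctor X)).X₂) _
  haveI h1 : Epi ((toAbFunctor Y).map ((Coh.push f).map (qπ Z))) :=
    ‹Epi ((Coh.pushAb f).map (S.map (toAbFunctor X)).g)›
  refine ⟨fun {L} a b e => Scheme.Modules.hom_ext _ _ fun U => ?_⟩
  have h2 := (cancel_epi ((toAbFunctor Y).map ((Coh.push f).map (qπ Z)))).1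
    (show (toAbFunctor Y).map _ ≫ (toAbFunctor Y).map a = (toAbFunctor Y).map _ ≫ (toAbFunctor Y).map b by
      rw [← Functor.map_comp, ← Functor.map_comp, e])
  exact congr(($h2).hom.app (op U))

variable (f : X ⟶ Y) [IsSeparated f] [QuasiCompact f]
  (h : ∀ Z : Set X, IsZero ((Coh.RpushAb f 1).obj (Coh.toAb (vanIdeal Z).toModules)))
  {V : Y.Opens} (hV : IsAffineOpen V)

include h hV

/-- Compatible values on `Z` come from a section over the preimage of an affine open. -/
theorem exists_lift (Z : Set X) {ι : Type u} (U : ι → X.Opens) (hU : ∀ i, U i ≤ f ⁻¹ᵁ V)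
    (hcov : f ⁻¹ᵁ V ≤ iSup U) (a : ∀ i, Γ(X, U i))
    (ha : ∀ i j (z : X), z ∈ Z → ∀ (hi : z ∈ U i) (hj : z ∈ U j), ev z hi (a i) = ev z hj (a j)) :
    ∃ b : Γ(X, f ⁻¹ᵁ V), ∀ i (z : X), z ∈ Z → ∀ hi : z ∈ U i, ev z (hU i hi) b = ev z hi (a i) := by
  let Q := cokernel (vanIdeal Z).ι
  let a' : ∀ i, Γ(Coh.structureModule X, U i) := a
  let q : ∀ i, Γ(Q, U i) := fun i => (qπ Z).app (U i) (a' i)
  obtain ⟨s, hs, -⟩ := TopCat.Sheaf.existsUnique_gluing' ⟨Q.presheaf, Q.isSheaf⟩ U (f ⁻¹ᵁ V)
    (fun i => homOfLE (hU i)) hcov q fun i j => by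
      show Q.presheaf.map (Opens.infLELeft (U i) (U j)).op (q i) = Q.presheaf.map (Opens.infLERight (U i) (U j)).op (q j)
      rw [← map_app_comm, ← map_app_comm, ← sub_eq_zero, ← map_sub, qπ_eq_zero_iff]
      intro z hz hzb
      have hzU : z ∈ U i ⊓ U j := X.basicOpen_le _ hzb
      refine (ev_eq_zero_iff z hzU _).1 ?_ hzb
      rw [show toFn ((Coh.structureModule X).presheaf.map (Opens.infLELeft (U i) (U j)).op (a' i) -
          (Coh.structureModule X).presheaf.map (Opens.infLERight (U i) (U j)).op (a' j)) =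
        X.presheaf.map (homOfLE inf_le_left).op (a i) - X.presheaf.map (homOfLE inf_le_right).op (a j) from rfl,
        map_sub, ev_map, ev_map, ha i j z hz hzU.1 hzU.2, sub_self]
  haveI := epi_push_qπ f Z (h Z)
  obtain ⟨b, hb⟩ := QCoh.app_surjective_of_epi (QCoh.isQCoh_pushforward f QCoh.isQCoh_structureModule)
    (QCoh.isQCoh_pushforward f (QCoh.isQCoh_cokernel (isQCoh_vanIdeal Z) QCoh.isQCoh_structureModule _))
    ((Coh.push f).map (qπ Z)) hV s
  change (qπ Z).app (f ⁻¹ᵁ V) b = s at hb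
  refine ⟨b, fun i z hz hi => ?_⟩
  have h1 : (qπ Z).app (U i) ((Coh.structureModule X).presheaf.map (homOfLE (hU i)).op b - a' i) = 0 := by
    rw [map_sub, map_app_comm, hb, sub_eq_zero]
    exact hs i
  have h2 := (qπ_eq_zero_iff Z _ _).1 h1 z hz
  rw [← ev_eq_zero_iff z hi] at h2
  rw [show toFn ((Coh.structureModule X).presheaf.map (homOfLE (hU i)).op b - a' i) =
      X.presheaf.map (homOfLE (hU i)).op b - a i from rfl, map_sub, sub_eq_zero, ev_map] at h2
  exact h2

/-- If the locus of `c` is covered by loci of the given sections, then `c` is in the radical of their span. -/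
theorem mem_radical (l : List Γ(X, f ⁻¹ᵁ V)) :
    ∀ c : Γ(X, f ⁻¹ᵁ V), (∀ z ∈ X.basicOpen c, ∃ g ∈ l, z ∈ X.basicOpen g) →
      c ∈ (Ideal.span {g | g ∈ l}).radical := by
  have hW : IsCompact ((f ⁻¹ᵁ V : X.Opens) : Set X) :=
    QuasiCompact.isCompact_preimage (f := f) _ V.2 hV.isCompact
  induction l with
  | nil =>
    intro c hc
    have h0 : X.basicOpen c = ⊥ := eq_bot_iff.mpr fun z hz => by
      obtain ⟨g, hg, -⟩ := hc z hz
      exact absurd hg List.not_mem_nil
    obtain ⟨n, hn⟩ := (Scheme.isNilpotent_iff_basicOpen_eq_bot_of_isCompact hW c).mpr h0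
    exact ⟨n, by rw [hn]; exact Ideal.zero_mem _⟩
  | cons g₁ l ih =>
    intro c hc
    let W := f ⁻¹ᵁ V
    let Z : Set X := {z | z ∈ W ∧ ∀ g ∈ l, z ∉ X.basicOpen g}
    obtain ⟨S, hS, hWS⟩ := isCompact_iff_finite_and_eq_biUnion_affineOpens.mp hW
    have hle : ∀ U : S, U.1.1 ≤ W := fun U y hy => by
      show y ∈ ((f ⁻¹ᵁ V : X.Opens) : Set X)
      rw [hWS]
      simpa using ⟨U.1.1, ⟨U.1.2, U.2⟩, hy⟩
    let res : ∀ U : S, Γ(X, W) →+* Γ(X, U.1.1) := fun U => (X.presheaf.map (homOfLE (hle U)).op).hom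
    have hrad : ∀ U : S, res U c ∈ (Ideal.span (res U '' {g | g ∈ g₁ :: l})).radical := fun U => by
      rw [Ideal.radical_eq_sInf, Submodule.mem_sInf]
      rintro p ⟨hp, hpp⟩
      haveI : Ideal.IsPrime p := hpp
      let P : PrimeSpectrum Γ(X, U.1.1) := ⟨p, hpp⟩
      have key : ∀ s : Γ(X, W), (U.1.2.fromSpec P ∈ X.basicOpen s ↔ res U s ∉ p) := fun s => by
        have hmem : U.1.2.fromSpec P ∈ U.1.1 := by
          show _ ∈ (U.1.1 : Set X)
          rw [← U.1.2.range_fromSpec]
          exact ⟨_, rfl⟩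
        have h1 : U.1.2.fromSpec P ∈ X.basicOpen s ↔ U.1.2.fromSpec P ∈ X.basicOpen (res U s) := by
          simp only [res]
          rw [Scheme.basicOpen_res]
          exact ⟨fun h => ⟨hmem, h⟩, fun h => h.2⟩
        rw [h1]
        show P ∈ U.1.2.fromSpec ⁻¹ᵁ X.basicOpen (res U s) ↔ _
        rw [IsAffineOpen.fromSpec_preimage_basicOpen]
        rfl
      by_contra hcp
      obtain ⟨g, hg, hgz⟩ := hc _ ((key c).2 hcp)
      exact (key g).1 hgz (hp (Ideal.subset_span ⟨g, hg, rfl⟩))
    choose n hn using fun U => hrad U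
    haveI := hS.fintype
    let N := Finset.univ.sup n
    have hN : ∀ U : S, ∃ r : Γ(X, U.1.1), ∀ z ∈ Z, ∀ hz : z ∈ U.1.1,
        ev z (hle U hz) c ^ N = ev z hz r * ev z (hle U hz) g₁ := fun U => by
      have h1 : res U c ^ N ∈ Ideal.span (res U '' {g | g ∈ g₁ :: l}) :=
        Ideal.pow_mem_of_pow_mem _ (hn U) (Finset.le_sup (Finset.mem_univ U))
      rw [show res U '' {g | g ∈ g₁ :: l} = insert (res U g₁) (res U '' {g | g ∈ l}) by
        rw [← Set.image_insert_eq]; congr 1; ext; simp, Ideal.mem_span_insert] at h1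
      obtain ⟨r, k, hk, hrk⟩ := h1
      refine ⟨r, fun z hz hzU => ?_⟩
      have hk0 : ev z hzU k = 0 := by
        have : Ideal.span (res U '' {g | g ∈ l}) ≤ RingHom.ker (ev z hzU) := by
          rw [Ideal.span_le]
          rintro _ ⟨g, hg, rfl⟩
          show ev z hzU (res U g) = 0
          simp only [res]
          rw [ev_map, ev_eq_zero_iff]
          exact hz.2 g hg
        exact this hk
      have h2 := congrArg (ev z hzU) hrk
      simp only [res, map_pow, map_add, map_mul, ev_map, hk0, add_zero] at h2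
      exact h2
    choose r hr using hN
    have hcov : W ≤ iSup fun U : S => U.1.1 := fun y hy => by
      have hy' : y ∈ ((f ⁻¹ᵁ V : X.Opens) : Set X) := hy
      rw [hWS] at hy'
      simpa [Opens.mem_iSup] using hy'
    let a : ∀ U : S, Γ(X, U.1.1) := fun U => res U c * r U
    obtain ⟨b, hb⟩ := exists_lift f h hV Z (fun U : S => U.1.1) hle hcov a fun i j z hz hi hj => by
      simp only [a, res, map_mul, ev_map]
      rcases eq_or_ne (ev z (hle i hi) g₁) 0 with h0 | h0
      · have hc0 : ev z (hle i hi) c = 0 := by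
          rw [ev_eq_zero_iff]
          intro hzc
          obtain ⟨g, hg, hgz⟩ := hc z hzc
          rcases List.mem_cons.1 hg with rfl | hg
          · exact (ev_eq_zero_iff z (hle i hi) g).1 h0 hgz
          · exact hz.2 g hg hgz
        rw [hc0, zero_mul, zero_mul]
      · congr 1
        exact mul_right_cancel₀ h0 ((hr i z hz hi).symm.trans (hr j z hz hj))
    let c' : Γ(X, W) := c ^ (N + 1) - g₁ * b
    have hc' : c' ∈ (Ideal.span {g | g ∈ l}).radical := ih c' fun z hzc => by
      by_contra hne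
      push Not at hne
      have hzW : z ∈ W := X.basicOpen_le _ hzc
      obtain ⟨U, hzU⟩ := Opens.mem_iSup.1 (hcov hzW)
      refine (ev_eq_zero_iff z hzW c').1 ?_ hzc
      simp only [c', map_sub, map_pow, map_mul]
      rw [show ev z hzW b = _ from hb U z ⟨hzW, hne⟩ hzU]
      simp only [a, res, map_mul, ev_map]
      rw [pow_succ, hr U z ⟨hzW, hne⟩ hzU]
      ring
    have hmem : c ^ (N + 1) ∈ (Ideal.span {g | g ∈ g₁ :: l}).radical := by
      rw [show c ^ (N + 1) = c' + g₁ * b by simp [c']]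
      refine add_mem (Ideal.radical_mono (Ideal.span_mono fun g hg => List.mem_cons_of_mem _ hg) hc')
        (Ideal.le_radical (Ideal.mul_mem_right _ _ (Ideal.subset_span List.mem_cons_self)))
    exact Ideal.radical_idem (Ideal.span {g | g ∈ g₁ :: l}) ▸ ⟨N + 1, hmem⟩

/-- The preimage of an affine open is affine. -/
theorem isAffineOpen_preimage : IsAffineOpen (f ⁻¹ᵁ V) := by
  let W := f ⁻¹ᵁ V
  have hW : IsCompact (W : Set X) := QuasiCompact.isCompact_preimage (f := f) _ V.2 hV.isCompact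
  have hclosed : ∀ x ∈ W, (∀ z ∈ W, x ⤳ z → z = x) →
      ∃ b : Γ(X, W), x ∈ X.basicOpen b ∧ IsAffineOpen (X.basicOpen b) := by
    intro x hx hxc
    obtain ⟨U, hU, hxU, hUW⟩ := exists_isAffineOpen_mem_and_subset (show x ∈ W from hx)
    let Z : Set X := ((W : Set X) \ U) ∪ {x}
    let O₂ : X.Opens := W ⊓ ⟨(closure ({x} : Set X))ᶜ, isClosed_closure.isOpen_compl⟩
    let cov : ULift.{u} Bool → X.Opens := fun i => cond i.down U O₂
    have hle : ∀ i, cov i ≤ W := by
      rintro ⟨_ | _⟩
      · exact inf_le_left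
      · exact hUW
    let a : ∀ i, Γ(X, cov i) := fun i => match i with
      | ⟨true⟩ => 1
      | ⟨false⟩ => 0
    have hdisj : ∀ z ∈ Z, z ∈ U → z ∈ O₂ → False := by
      rintro z (hz | hz) hzU hzO
      · exact hz.2 hzU
      · exact hzO.2 (by rw [show z = x from hz]; exact subset_closure rfl)
    obtain ⟨b, hb⟩ := exists_lift f h hV Z cov hle (fun z hz => by
        refine Opens.mem_iSup.2 ?_
        by_cases hzU : z ∈ U
        · exact ⟨⟨true⟩, hzU⟩
        · refine ⟨⟨false⟩, hz, fun hcl => hzU ?_⟩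
          rw [hxc z hz (specializes_iff_mem_closure.2 hcl)]
          exact hxU) a (by
        rintro ⟨_ | _⟩ ⟨_ | _⟩ z hz hi hj
        · rfl
        · exact (hdisj z hz hj hi).elim
        · exact (hdisj z hz hi hj).elim
        · rfl)
    have hxb : x ∈ X.basicOpen b := by
      by_contra hn
      rw [← ev_eq_zero_iff x hx] at hn
      have := hb ⟨true⟩ x (Or.inr rfl) hxU
      rw [show ev x (hle ⟨true⟩ hxU) b = 0 from hn, show a ⟨true⟩ = 1 from rfl, map_one] at this
      exact one_ne_zero this.symm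
    have hbU : X.basicOpen b ≤ U := fun z hz => by
      by_contra hzU
      have hzW : z ∈ W := X.basicOpen_le _ hz
      have hzO : z ∈ O₂ := ⟨hzW, fun hcl => hzU (by
        rw [hxc z hzW (specializes_iff_mem_closure.2 hcl)]
        exact hxU)⟩
      refine (ev_eq_zero_iff z hzW b).1 ?_ hz
      rw [show ev z hzW b = _ from hb ⟨false⟩ z (Or.inl ⟨hzW, hzU⟩) hzO, show a ⟨false⟩ = 0 from rfl, map_zero]
    refine ⟨b, hxb, ?_⟩
    have e : X.basicOpen b = X.basicOpen (X.presheaf.map (homOfLE hUW).op b) := by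
      rw [Scheme.basicOpen_res]
      exact (inf_eq_right.2 hbU).symm
    rw [e]
    exact hU.basicOpen _
  have hall : ∀ y ∈ W, ∃ b : Γ(X, W), y ∈ X.basicOpen b ∧ IsAffineOpen (X.basicOpen b) := by
    intro y hy
    haveI : CompactSpace (W : Scheme.{u}) := isCompact_iff_compactSpace.mp hW
    obtain ⟨x, hxy, hxc⟩ := (isClosed_closure (s := ({⟨y, hy⟩} : Set (W : Scheme.{u})))).exists_closed_singleton
      ⟨⟨y, hy⟩, subset_closure rfl⟩
    have hsp : y ⤳ W.ι x := (specializes_iff_mem_closure.2 hxy).map W.ι.continuous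
    obtain ⟨b, hb, hb'⟩ := hclosed (W.ι x) x.2 fun z hz hxz => by
      have h1 : x ⤳ (⟨z, hz⟩ : (W : Scheme.{u})) := W.ι.isOpenEmbedding.isInducing.specializes_iff.1 hxz
      exact congrArg W.ι (Set.mem_singleton_iff.1 (hxc.closure_subset (h1.mem_closure)))
    exact ⟨b, hsp.mem_open (X.basicOpen b).2 hb, hb'⟩
  choose b hb hb' using hall
  obtain ⟨t, ht⟩ := hW.elim_finite_subcover (fun y : W => ((X.basicOpen (b y.1 y.2)) : Set X))
    (fun y => (X.basicOpen _).2) (fun y hy => Set.mem_iUnion.2 ⟨⟨y, hy⟩, hb y hy⟩)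
  classical
  let l : List Γ(X, W) := t.toList.map fun y => b y.1 y.2
  refine isAffineOpen_of_isAffineOpen_basicOpen W {g | g ∈ l} ?_ ?_
  · have h1 := mem_radical f h hV l 1 fun z hz => by
      obtain ⟨y, hy, hzy⟩ := Set.mem_iUnion₂.1 (ht (X.basicOpen_le _ hz))
      exact ⟨_, List.mem_map.2 ⟨y, Finset.mem_toList.2 hy, rfl⟩, hzy⟩
    exact Ideal.radical_eq_top.1 ((Ideal.eq_top_iff_one _).2 h1)
  · intro g hg
    obtain ⟨y, -, rfl⟩ := List.mem_map.1 hg
    exact hb' _ _

end Groth.Agent.QCoh.AffCritVan
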