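import Groth.Agent.QCoh.GodMV
import Groth.Agent.QCoh.GodHH
import Groth.Agent.QCoh.Bound
import Groth.Agent.QCoh.VanIdeal

/-!
# Degree one cohomology and morphisms inducing bijections on sections
-/

set_option backward.isDefEq.respectTransparency false
set_option backward.isDefEq.respectTransparency.types false
set_option linter.style.haveILetI false
set_option maxHeartbeats 2000000

universe u

open CategoryTheory CategoryTheory.Limits AlgebraicGeometry TopologicalSpace Opposite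

namespace Groth.Agent.QCoh

theorem connLin_secH_eq_zero_iff {k : Type u} [CommRing k] {X : Scheme.{u}} (ρ : k →+* Coh.Γtop X) (M : X.Modules)
    (v : Γ(godQ M 1, ⊤)) :
    (connLin ρ (godSES_shortExact M 0) 0) (secH ρ (godQ M 1) v) = 0 ↔ ∃ x, (godπ M 0).app ⊤ x = v := by
  refine (Ab.connecting_eq_zero_iff (X := X.toPresheafedSpace.carrier)
    (toAb_shortExact (godSES_shortExact M 0)) 0 _).trans ⟨?_, ?_⟩
  · rintro ⟨y, hy⟩
    refine ⟨Sheaf.H.equiv₀ (Coh.toAb (God (godQ M 0))) isTerminalTop y, ?_⟩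
    refine (Sheaf.H.equiv₀_naturality isTerminalTop ((godSES M 0).map (toAbFunctor X)).g y).trans ?_
    exact (congrArg (Sheaf.H.equiv₀ (Coh.toAb (godQ M 1)) isTerminalTop) hy).trans
      ((Sheaf.H.equiv₀ (Coh.toAb (godQ M 1)) isTerminalTop).apply_symm_apply v)
  · rintro ⟨x, rfl⟩
    refine ⟨(Sheaf.H.equiv₀ (Coh.toAb (God (godQ M 0))) isTerminalTop).symm x,
      (Sheaf.H.equiv₀ (Coh.toAb (godQ M 1)) isTerminalTop).injective ?_⟩
    refine (Sheaf.H.equiv₀_naturality isTerminalTop ((godSES M 0).map (toAbFunctor X)).g _).symm.trans ?_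
    refine (congrArg _ ((Sheaf.H.equiv₀ (Coh.toAb (God (godQ M 0))) isTerminalTop).apply_symm_apply x)).trans ?_
    exact ((Sheaf.H.equiv₀ (Coh.toAb (godQ M 1)) isTerminalTop).apply_symm_apply _).symm

theorem map_two' {X : Scheme.{u}} (M : X.Modules) {A B C D : X.Opens} (i : B ⟶ A) (j : C ⟶ B) (i' : D ⟶ A)
    (j' : C ⟶ D) (t : Γ(M, A)) :
    M.presheaf.map j.op (M.presheaf.map i.op t) = M.presheaf.map j'.op (M.presheaf.map i'.op t) := by
  rw [map_map, map_map]
  rfl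

variable {k : Type u} [CommRing k] {X Y : Scheme.{u}} (f : X ⟶ Y) (ρ : k →+* Coh.Γtop Y) (ρ' : k →+* Coh.Γtop X)
  (hρ : ∀ a, ρ' a = f.appTop (ρ a)) {M : Y.Modules} {M' : X.Modules}
  (η : M ⟶ (Scheme.Modules.pushforward f).obj M') (hη : ∀ V : Y.Opens, Function.Bijective (η.app V))
  (hM : Coh.IsQCoh M)

include hη hM in
theorem exists_lift_of_godQMap (g : Γ(godQ M 1, ⊤)) (s' : Γ(God (godQ M' 0), ⊤))
    (h : (godπ M' 0).app ⊤ s' = (godQMap f η 1).app ⊤ g) : ∃ s, (godπ M 0).app ⊤ s = g := by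
  have loc : ∀ y : Y, ∃ (V : Y.Opens) (t : Γ(God (godQ M 0), V)), y ∈ V ∧
      (godπ M 0).app V t = (godQ M 1).presheaf.map (homOfLE (le_top : V ≤ ⊤)).op g ∧
      (godMap f (godQMap f η 0)).app V t =
        (God (godQ M' 0)).presheaf.map (homOfLE (le_top : f ⁻¹ᵁ V ≤ ⊤)).op s' := fun y => by
    obtain ⟨V, hV, hy, -⟩ := exists_isAffineOpen_mem_and_subset (x := y) (U := ⊤) trivial
    obtain ⟨t₀, ht₀⟩ := godπ_app_surjective (M := M) (n := 0) (subsingleton_HU_of_isAffineOpen hM hV 0)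
      ((godQ M 1).presheaf.map (homOfLE (le_top : V ≤ ⊤)).op g)
    let u : Γ(God (godQ M' 0), f ⁻¹ᵁ V) := (godMap f (godQMap f η 0)).app V t₀
    have hd : (godπ M' 0).app (f ⁻¹ᵁ V) (u -
        (God (godQ M' 0)).presheaf.map (homOfLE (le_top : f ⁻¹ᵁ V ≤ ⊤)).op s') = 0 := by
      rw [map_sub ((godπ M' 0).app (f ⁻¹ᵁ V)).hom]
      refine sub_eq_zero.2 ?_
      refine (congr(Scheme.Modules.Hom.app $(godπ_godQMap f η 0) V t₀)).symm.trans ?_
      refine (congrArg ((godQMap f η 1).app V) ht₀).trans ?_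
      refine (map_app_comm (godQMap f η 1) (homOfLE (le_top : V ≤ ⊤)) g).trans ?_
      refine Eq.trans ?_ (map_app_comm (godπ M' 0) (homOfLE (le_top : f ⁻¹ᵁ V ≤ ⊤)) s').symm
      exact congrArg _ h.symm
    obtain ⟨a, ha⟩ := exists_of_godπ_app_eq_zero 0 _ hd
    obtain ⟨b, hb⟩ := (hη V).2 a
    refine ⟨V, t₀ - (toGod (godQ M 0)).app V b, hy, ?_, ?_⟩
    · rw [map_sub ((godπ M 0).app V).hom]
      exact (sub_eq_self.2 (app_g_f (S := godSES M 0) V b)).trans ht₀
    · rw [map_sub ((godMap f (godQMap f η 0)).app V).hom]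
      refine (congrArg (fun z : Γ(God (godQ M' 0), f ⁻¹ᵁ V) => u - z)
        ((congr(Scheme.Modules.Hom.app $(toGod_godMap f (godQMap f η 0)) V b)).trans
          (congrArg ((toGod M').app (f ⁻¹ᵁ V)) hb))).trans ?_
      exact (congrArg (fun z : Γ(God (godQ M' 0), f ⁻¹ᵁ V) => u - z) ha).trans (sub_sub_cancel _ _)
  choose V t hyV htg hts using loc
  have agree : ∀ (y y' x : Y) (hx : x ∈ V y) (hx' : x ∈ V y'), godVal (t y) x hx = godVal (t y') x hx' := by
    intro y y' x hx hx'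
    let W := V y ⊓ V y'
    let r₁ := (God (godQ M 0)).presheaf.map (homOfLE (inf_le_left : W ≤ V y)).op (t y)
    let r₂ := (God (godQ M 0)).presheaf.map (homOfLE (inf_le_right : W ≤ V y')).op (t y')
    have hπ : (godπ M 0).app W (r₁ - r₂) = 0 := by
      rw [map_sub ((godπ M 0).app W).hom]
      refine sub_eq_zero.2 ((map_app_comm (godπ M 0) _ _).trans (Eq.trans ?_ (map_app_comm (godπ M 0) _ _).symm))
      rw [htg, htg]
      exact map_two' (godQ M 1) _ _ _ _ g
    have hf : (godMap f (godQMap f η 0)).app W (r₁ - r₂) = 0 := by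
      rw [map_sub ((godMap f (godQMap f η 0)).app W).hom]
      refine sub_eq_zero.2 ((map_app_comm (godMap f (godQMap f η 0)) _ _).trans
        (Eq.trans ?_ (map_app_comm (godMap f (godQMap f η 0)) _ _).symm))
      rw [hts, hts]
      exact map_two' (God (godQ M' 0)) _ ((Opens.map f.base).map (homOfLE (inf_le_left : W ≤ V y))) _ ((Opens.map f.base).map (homOfLE (inf_le_right : W ≤ V y'))) s'
    obtain ⟨c, hc⟩ := exists_of_godπ_app_eq_zero 0 _ hπ
    have hc0 : c = 0 := (hη W).1 <| by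
      refine Eq.trans ?_ (map_zero (η.app W).hom).symm
      refine toGod_app_injective M' (f ⁻¹ᵁ W) (Eq.trans ?_ (map_zero _).symm)
      refine (congr(Scheme.Modules.Hom.app $(toGod_godMap f (godQMap f η 0)) W c)).symm.trans ?_
      exact (congrArg ((godMap f (godQMap f η 0)).app W) hc).trans hf
    have e : r₁ = r₂ := sub_eq_zero.1 (hc.symm.trans ((congrArg _ hc0).trans (map_zero _)))
    exact congrArg (fun s : Γ(God (godQ M 0), W) => godVal s x ⟨hx, hx'⟩) e
  let s : Γ(God (godQ M 0), ⊤) :=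
    (fun x => godVal (t x.1) x.1 (hyV x.1) : ∀ x : (⊤ : Y.Opens), stk (godQ M 0) x.1)
  refine ⟨s, ?_⟩
  refine TopCat.Sheaf.eq_of_locally_eq' (⟨(godQ M 1).presheaf, (godQ M 1).isSheaf⟩ :
      TopCat.Sheaf AddCommGrpCat.{u} Y.toPresheafedSpace.carrier) V ⊤ (fun y => homOfLE le_top)
    (fun x _ => Opens.mem_iSup.2 ⟨x, hyV x⟩) _ _ fun y => ?_
  refine (map_app_comm (godπ M 0) (homOfLE (le_top : V y ≤ ⊤)) s).symm.trans (Eq.trans ?_ (htg y))
  exact congrArg ((godπ M 0).app (V y)) (god_ext fun x hx => agree x y x (hyV x) hx)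

include hρ hη hM in
/-- Degree one cohomology injects. -/
theorem finrank_HH_one_le :
    letI := modHH ρ M 1
    letI := modHH ρ' M' 1
    Module.Finite k (Coh.HH X M' 1) → Nontrivial k → IsNoetherianRing k →
      Module.finrank k (Coh.HH Y M 1) ≤ Module.finrank k (Coh.HH X M' 1) := by
  intro hfin _ _
  let := modHH ρ M 1
  let := modHH ρ' M' 1
  let := modHH ρ (godQ M 1) 0
  let := modHH ρ' (godQ M' 1) 0
  let := secModule ρ (godQ M 1) ⊤
  let := secModule ρ' (godQ M' 1) ⊤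
  let a : Γ(godQ M 1, ⊤) →ₗ[k] Coh.HH Y M 1 :=
    (connLin ρ (godSES_shortExact M 0) 0).comp (secH ρ (godQ M 1)).toLinearMap
  let a' : Γ(godQ M' 1, ⊤) →ₗ[k] Coh.HH X M' 1 :=
    (connLin ρ' (godSES_shortExact M' 0) 0).comp (secH ρ' (godQ M' 1)).toLinearMap
  let j : Γ(godQ M 1, ⊤) →ₗ[k] Γ(godQ M' 1, ⊤) :=
    { toFun := fun g => (godQMap f η 1).app ⊤ g
      map_add' := map_add ((godQMap f η 1).app ⊤).hom
      map_smul' := fun r g => by
        refine (Scheme.Modules.Hom.app_smul (godQMap f η 1) _ g).trans ?_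
        let z : Γ(godQ M' 1, ⊤) := (godQMap f η 1).app ⊤ g
        refine congrArg (fun t : Γ(X, ⊤) => t • z) ?_
        show f.appTop (Y.presheaf.map (homOfLE (le_top : (⊤ : Y.Opens) ≤ ⊤)).op (ρ r)) =
          X.presheaf.map (homOfLE (le_top : (⊤ : X.Opens) ≤ ⊤)).op (ρ' r)
        rw [hρ r]
        simp }
  have ha : Function.Surjective a := (Ab.connecting_surjective (X := Y.toPresheafedSpace.carrier)
    (toAb_shortExact (godSES_shortExact M 0)) 0 (subsingleton_HH_God (godQ M 0) 0)).comp (secH ρ (godQ M 1)).surjective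
  have ha₀ : ∀ v, a v = 0 ↔ ∃ x, (godπ M 0).app ⊤ x = v := fun v =>
    connLin_secH_eq_zero_iff ρ M v
  have ha₀' : ∀ v, a' v = 0 ↔ ∃ x, (godπ M' 0).app ⊤ x = v := fun v =>
    connLin_secH_eq_zero_iff ρ' M' v
  have hker : LinearMap.ker a ≤ LinearMap.ker (a'.comp j) := fun v hv => by
    obtain ⟨x, rfl⟩ := (ha₀ v).1 hv
    exact (ha₀' _).2 ⟨(godMap f (godQMap f η 0)).app ⊤ x,
      congr(Scheme.Modules.Hom.app $(godπ_godQMap f η 0) ⊤ x).symm⟩
  let l : Coh.HH Y M 1 →ₗ[k] Coh.HH X M' 1 :=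
    ((LinearMap.ker a).liftQ (a'.comp j) hker).comp (a.quotKerEquivOfSurjective ha).symm.toLinearMap
  refine LinearMap.finrank_le_finrank_of_injective (f := l) ?_
  show Function.Injective (((LinearMap.ker a).liftQ (a'.comp j) hker) ∘ (a.quotKerEquivOfSurjective ha).symm)
  refine Function.Injective.comp ?_ (a.quotKerEquivOfSurjective ha).symm.injective
  rw [← LinearMap.ker_eq_bot, Submodule.ker_liftQ_eq_bot _ _ _]
  intro v hv
  obtain ⟨s', hs'⟩ := (ha₀' _).1 hv
  exact (ha₀ v).2 (exists_lift_of_godQMap f η hη hM v s' hs')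

end Groth.Agent.QCoh
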