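import Groth.Agent.QCoh.FlatFibre
import Groth.Agent.PBC.Vanish
import Mathlib.CategoryTheory.Idempotents.Basic

/-!
# Projective models concentrated in a range of degrees
-/

set_option autoImplicit false
set_option linter.style.haveILetI false
set_option backward.isDefEq.respectTransparency false
set_option backward.isDefEq.respectTransparency.types false
set_option maxHeartbeats 1000000

universe u

open CategoryTheory CategoryTheory.Limits CategoryTheory.Category

noncomputable section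

namespace Groth.Agent.QCoh.Trunc

variable {R : Type u} [CommRing R] (P : ChainComplex (ModuleCat.{u} R) ℤ)

theorem idem_comp {C : Type*} [Category C] [Preadditive C] {V : C} (U W : V ⟶ V) (hU : U ≫ U = U)
    (hW : W ≫ W = W) (hWU : W ≫ U = 0) :
    ((𝟙 V - U) ≫ (𝟙 V - W)) ≫ ((𝟙 V - U) ≫ (𝟙 V - W)) = (𝟙 V - U) ≫ (𝟙 V - W) := by
  have h1 : (𝟙 V - U) ≫ (𝟙 V - U) = 𝟙 V - U := by
    simp only [Preadditive.sub_comp, Preadditive.comp_sub, id_comp, comp_id, hU]; abel
  have h2 : (𝟙 V - W) ≫ (𝟙 V - W) = 𝟙 V - W := by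
    simp only [Preadditive.sub_comp, Preadditive.comp_sub, id_comp, comp_id, hW]; abel
  have h3 : (𝟙 V - W) ≫ (𝟙 V - U) = 𝟙 V - W - U := by
    simp only [Preadditive.sub_comp, Preadditive.comp_sub, id_comp, comp_id, hWU]; abel
  rw [assoc, ← assoc (𝟙 V - W), h3]
  simp only [Preadditive.sub_comp, Preadditive.comp_sub, id_comp, comp_id, hU, hW, hWU,
    reassoc_of% hWU, reassoc_of% hU, zero_comp, comp_zero]
  abel

/-- A differential has an inner inverse. -/
def Inner (i j : ℤ) : Prop := ∃ H : P.X j ⟶ P.X i, P.d i j ≫ H ≫ P.d i j = P.d i j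

open Classical in
/-- A chosen inner inverse. -/
def S (j i : ℤ) : P.X j ⟶ P.X i := if h : i = j + 1 ∧ Inner P i j then h.2.choose else 0

theorem S_cases (i j : ℤ) : P.d i j ≫ S P j i ≫ P.d i j = P.d i j ∨ S P j i = 0 := by
  unfold S
  split_ifs with h
  exacts [Or.inl h.2.choose_spec, Or.inr rfl]

theorem S_spec {i j : ℤ} (hij : i = j + 1) (h : Inner P i j) : P.d i j ≫ S P j i ≫ P.d i j = P.d i j := by
  rw [S, dif_pos ⟨hij, h⟩]
  exact h.choose_spec

theorem S_zero {i j : ℤ} (h : ¬ i = j + 1) : S P j i = 0 := by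
  rw [S, dif_neg fun h' => h h'.1]

theorem idem_dS (i j : ℤ) : (P.d i j ≫ S P j i) ≫ (P.d i j ≫ S P j i) = P.d i j ≫ S P j i := by
  rcases S_cases P i j with h | h
  · rw [assoc, ← assoc (S P j i) (P.d i j), ← assoc (P.d i j) (S P j i ≫ P.d i j), h]
  · rw [h, comp_zero, zero_comp]

theorem idem_Sd (i j : ℤ) : (S P j i ≫ P.d i j) ≫ (S P j i ≫ P.d i j) = S P j i ≫ P.d i j := by
  rcases S_cases P i j with h | h
  · rw [assoc, h]
  · rw [h, zero_comp, zero_comp]

/-- The contracting family. -/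
def hom (i j : ℤ) : P.X i ⟶ P.X j := (𝟙 _ - P.d i (i - 1) ≫ S P (i - 1) i) ≫ S P i j

theorem hom_zero (i j : ℤ) (h : ¬ (ComplexShape.down ℤ).Rel j i) : hom P i j = 0 := by
  rw [hom, S_zero P (fun e => h e.symm), comp_zero]

/-- The projector removing the split exact parts. -/
def proj : P ⟶ P := 𝟙 P - Homotopy.nullHomotopicMap (hom P)

theorem proj_f {a q b : ℤ} (ha : q + 1 = a) (hb : b + 1 = q) :
    (proj P).f q = (𝟙 _ - P.d q b ≫ S P b q) ≫ (𝟙 _ - S P q a ≫ P.d a q) := by
  show 𝟙 (P.X q) - (Homotopy.nullHomotopicMap (hom P)).f q = _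
  rw [Homotopy.nullHomotopicMap_f (c := ComplexShape.down ℤ) (k₂ := a) (k₀ := b) (by exact ha) (by exact hb)]
  obtain rfl : b = q - 1 := by omega
  simp only [hom, Preadditive.sub_comp, Preadditive.comp_sub, id_comp, comp_id, assoc, P.d_comp_d_assoc,
    zero_comp, sub_zero]
  abel

theorem proj_idem : proj P ≫ proj P = proj P := by
  ext1 q
  rw [HomologicalComplex.comp_f, proj_f P (a := q + 1) (b := q - 1) rfl (by omega)]
  exact idem_comp _ _ (idem_dS P _ _) (idem_Sd P _ _)
    (by rw [assoc, P.d_comp_d_assoc, zero_comp, comp_zero])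

/-- The projector is homotopic to the identity. -/
def projHomotopy : Homotopy (proj P) (𝟙 P) := by
  refine (Homotopy.equivSubZero.symm ?_).symm
  exact (Homotopy.ofEq (show 𝟙 P - proj P = Homotopy.nullHomotopicMap (hom P) from sub_sub_cancel _ _)).trans
    (Homotopy.nullHomotopy (hom P) (hom_zero P))

theorem proj_f_eq_zero {q : ℤ} (h₁ : Inner P (q + 1) q) (h₂ : Inner P q (q - 1))
    (hex : Function.Exact (P.d (q + 1) q).hom (P.d q (q - 1)).hom) : (proj P).f q = 0 := by
  rw [proj_f P (a := q + 1) (b := q - 1) rfl (by omega)]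
  ext x
  let y := (𝟙 (P.X q) - P.d q (q - 1) ≫ S P (q - 1) q).hom x
  have hy : (P.d q (q - 1)).hom y = 0 := by
    have h := ConcreteCategory.congr_hom (S_spec P (by omega) h₂) x
    show (P.d q (q - 1)).hom (x - (S P (q - 1) q).hom ((P.d q (q - 1)).hom x)) = 0
    rw [map_sub, sub_eq_zero]
    exact h.symm
  obtain ⟨z, hz⟩ := (hex y).1 hy
  show y - (P.d (q + 1) q).hom ((S P q (q + 1)).hom y) = 0
  rw [← hz, sub_eq_zero]
  exact (ConcreteCategory.congr_hom (S_spec P rfl h₁) z).symm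

theorem inner_next {q : ℤ} [Module.Projective R (P.X q)] (h : Inner P q (q - 1))
    (hex : Function.Exact (P.d (q + 1) q).hom (P.d q (q - 1)).hom) : Inner P (q + 1) q := by
  obtain ⟨H, hH⟩ := h
  let π : P.X q →ₗ[R] P.X q := LinearMap.id - H.hom ∘ₗ (P.d q (q - 1)).hom
  have hπ : ∀ x, π x ∈ LinearMap.range (P.d (q + 1) q).hom := fun x => (hex _).1 (by
    show (P.d q (q - 1)).hom (x - H.hom ((P.d q (q - 1)).hom x)) = 0
    rw [map_sub, sub_eq_zero]
    exact (ConcreteCategory.congr_hom hH x).symm)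
  obtain ⟨σ, hσ⟩ := Module.projective_lifting_property (P.d (q + 1) q).hom.rangeRestrict
    (LinearMap.codRestrict _ π hπ) (LinearMap.surjective_rangeRestrict _)
  refine ⟨ModuleCat.ofHom σ, ModuleCat.hom_ext (LinearMap.ext fun x => ?_)⟩
  refine (congrArg Subtype.val (DFunLike.congr_fun hσ ((P.d (q + 1) q).hom x))).trans ?_
  show (P.d (q + 1) q).hom x - H.hom ((P.d q (q - 1)).hom ((P.d (q + 1) q).hom x)) = _
  rw [show (P.d q (q - 1)).hom ((P.d (q + 1) q).hom x) = 0 from
    DFunLike.congr_fun (PBC.d_comp_hom (P := P) (q + 1) q (q - 1)) x, map_zero, sub_zero]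

variable (hfin : ∀ i, Module.Finite R (P.X i)) (hfree : ∀ i, Module.Free R (P.X i))

include hfin hfree in
theorem inner_of_exactPts {q : ℤ} (h : PBC.ExactPts P q) :
    Inner P q (q - 1) ∧ Inner P (q + 1) q ∧ Function.Exact (P.d (q + 1) q).hom (P.d q (q - 1)).hom := by
  haveI := hfin; haveI := hfree
  have hp := fun p (_ : Ideal.IsPrime p) => PBC.exact_baseChange_of_dRank hfin (a := q + 1) (q := q) (b := q - 1)
    rfl (by omega) h p
  obtain ⟨H, hH⟩ := PBC.exists_inner_inverse _ _ (PBC.d_comp_hom _ _ _) hp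
  have hex := PBC.exact_of_points _ _ (PBC.d_comp_hom _ _ _) hp
  refine ⟨⟨ModuleCat.ofHom H, ModuleCat.hom_ext hH⟩, ?_, hex⟩
  exact inner_next P ⟨ModuleCat.ofHom H, ModuleCat.hom_ext hH⟩ hex

include hfin hfree in
/-- A finite free complex, acyclic at all points above `b` and acyclic below `a`, is homotopy equivalent
to a projective complex concentrated in `[a, b]`. -/
theorem exists_trunc {c a b : ℤ} (hc : ∀ i, i < c → IsZero (P.X i)) (hlo : ∀ q, q < a → Subsingleton (P.homology q))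
    (hhi : ∀ q, b < q → PBC.ExactPts P q) :
    ∃ Q : ChainComplex (ModuleCat.{u} R) ℤ, (∀ i, Module.Finite R (Q.X i) ∧ Module.Projective R (Q.X i)) ∧
      (∀ i, i < a ∨ b < i → IsZero (Q.X i)) ∧ Nonempty (HomotopyEquiv Q P) := by
  haveI := hfin; haveI := hfree
  have hexlo : ∀ q, q < a → Function.Exact (P.d (q + 1) q).hom (P.d q (q - 1)).hom := fun q hq => by
    haveI := hlo q hq
    have hex : P.ExactAt q := (HomologicalComplex.exactAt_iff_isZero_homology _ _).2
      (ModuleCat.isZero_of_subsingleton _)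
    rw [HomologicalComplex.exactAt_iff' _ (q + 1) q (q - 1) (by simp) (by simp),
      ShortComplex.ShortExact.moduleCat_exact_iff_function_exact] at hex
    exact hex
  have hinlo : ∀ (n : ℕ) (q : ℤ), q ≤ c + n → q ≤ a → Inner P q (q - 1) := by
    intro n
    induction n with
    | zero =>
      intro q hq _
      exact ⟨0, by rw [(hc (q - 1) (by omega)).eq_zero_of_tgt (P.d q (q - 1))]; simp⟩
    | succ n ih =>
      intro q hq hqa
      obtain ⟨r, rfl⟩ : ∃ r, r + 1 = q := ⟨q - 1, by omega⟩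
      rw [show r + 1 - 1 = r by omega]
      exact inner_next P (ih r (by omega) (by omega)) (hexlo r (by omega))
  have hin : ∀ q, q ≤ a → Inner P q (q - 1) := fun q h => hinlo (q - c).toNat q (by omega) h
  have hz : ∀ q, q < a ∨ b < q → (proj P).f q = 0 := by
    rintro q (hq | hq)
    · refine proj_f_eq_zero P ?_ (hin q hq.le) (hexlo q hq)
      have := hin (q + 1) (by omega)
      rwa [show q + 1 - 1 = q by omega] at this
    · obtain ⟨h1, h2, h3⟩ := inner_of_exactPts P hfin hfree (hhi q hq)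
      exact proj_f_eq_zero P h2 h1 h3
  obtain ⟨Q, i, e, hie, hei⟩ := IsIdempotentComplete.idempotents_split P (proj P) (proj_idem P)
  have hie' : ∀ q, i.f q ≫ e.f q = 𝟙 (Q.X q) := fun q => by
    rw [← HomologicalComplex.comp_f, hie]; rfl
  refine ⟨Q, fun q => ?_, fun q hq => ?_, ⟨{
    hom := i, inv := e
    homotopyHomInvId := Homotopy.ofEq hie
    homotopyInvHomId := (Homotopy.ofEq hei).trans (projHomotopy P) }⟩⟩
  · have h := ModuleCat.hom_ext_iff.1 (hie' q)
    exact ⟨Module.Finite.of_surjective (e.f q).hom fun x => ⟨(i.f q).hom x, DFunLike.congr_fun h x⟩,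
      Module.Projective.of_split (i.f q).hom (e.f q).hom h⟩
  · rw [IsZero.iff_id_eq_zero, ← hie' q]
    have h0 : e.f q ≫ i.f q = 0 := by rw [← HomologicalComplex.comp_f, hei]; exact hz q hq
    have : (i.f q ≫ e.f q) ≫ (i.f q ≫ e.f q) = i.f q ≫ e.f q := by rw [hie', id_comp]
    rw [← this, assoc, reassoc_of% h0, zero_comp, comp_zero]

/-- A complex in cohomological indexing. -/
def fwdCx (Q : ChainComplex (ModuleCat.{u} R) ℤ) : CochainComplex (ModuleCat.{u} R) ℤ where
  X i := Q.X (-i)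
  d i j := Q.d (-i) (-j)
  shape i j h := Q.shape _ _ fun h' => h (by simp only [ComplexShape.up_Rel, ComplexShape.down_Rel] at *; lia)
  d_comp_d' i j k _ _ := Q.d_comp_d _ _ _

theorem nonempty_T_fwdCx (Q : ChainComplex (ModuleCat.{u} R) ℤ) (p : ℤ) (N : ModuleCat.{u} R) :
    Nonempty (CohIII.T (fwdCx Q) p N ≅ CohIII.T Q (-p) N) := by
  let K := CohIII.tensorObj (fwdCx Q) N
  let K' := CohIII.tensorObj Q N
  let φ : K.sc' (p - 1) p (p + 1) ≅ K'.sc' (-(p - 1)) (-p) (-(p + 1)) :=
    ShortComplex.isoMk (Iso.refl _) (Iso.refl _) (Iso.refl _)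
      ((id_comp _).trans (comp_id _).symm) ((id_comp _).trans (comp_id _).symm)
  exact ⟨K.homologyIsoSc' (p - 1) p (p + 1) (by simp) (by simp) ≪≫ ShortComplex.homologyMapIso φ ≪≫
    (K'.homologyIsoSc' (-(p - 1)) (-p) (-(p + 1)) (by simp; lia) (by simp; lia)).symm⟩

theorem nonempty_T_homotopyEquiv {Q : ChainComplex (ModuleCat.{u} R) ℤ} (h : HomotopyEquiv Q P) (p : ℤ)
    (N : ModuleCat.{u} R) : Nonempty (CohIII.T Q p N ≅ CohIII.T P p N) :=
  ⟨((MonoidalCategory.tensorRight N).mapHomotopyEquiv h).toHomologyIso p⟩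

end Groth.Agent.QCoh.Trunc
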